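import Mathlib
import Groth.Prelude.Def_SpSeq

/-! Spectral sequences of filtered complexes: finite filtrations. -/

universe v u

open CategoryTheory CategoryTheory.Limits

noncomputable section

namespace Groth.Agent.SpFilLib

set_option linter.style.haveILetI false

variable {A : Type u} [Category.{v} A] [Abelian A]

theorem subquot_isZero_of_eq {X : A} {Z B : Subobject X} (h : B ≤ Z) (e : Z ≤ B) :
    IsZero (SpSeq.subquot Z B h) := by
  obtain rfl := le_antisymm h e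
  haveI : Epi (B.ofLE B h) := by rw [Subobject.ofLE_refl]; infer_instance
  exact isZero_cokernel_of_epi _

theorem pullback_bot {X Y : A} (f : X ⟶ Y) :
    (Subobject.pullback f).obj ⊥ = kernelSubobject f := by
  refine le_antisymm (le_kernelSubobject _ _ ?_) (SpSeq.FilCx.kernelSubobject_le_pullback f ⊥)
  rw [← (Subobject.isPullback f (⊥ : Subobject Y)).w, Subobject.bot_arrow, comp_zero]

theorem isIso_π_of_zero {X Y : A} {f : X ⟶ Y} (h : f = 0) : IsIso (cokernel.π f) := by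
  subst h
  infer_instance

theorem imageSubobject_eq_bot {X Y : A} {f : X ⟶ Y} (h : f = 0) : imageSubobject f = ⊥ := by
  subst h
  exact imageSubobject_zero

theorem isIso_of_mono_of_epi' {X Y : A} (f : X ⟶ Y) [Epi f] : IsIso (imageSubobject f).arrow :=
  haveI : Epi (imageSubobject f).arrow := epi_of_epi_fac (imageSubobject_arrow_comp f)
  isIso_of_mono_of_epi _

theorem fil_isFinite_of_le {K : SpSeq.FilObj A} {a b : ℤ} (ha : K.fil a = ⊤) (hb : K.fil b = ⊥) :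
    K.IsFinite := ⟨⟨a, ha⟩, b, hb⟩

theorem isSeparated_of_isFinite {K : SpSeq.FilObj A} (h : K.IsFinite) : K.IsSeparated := by
  obtain ⟨-, b, hb⟩ := h
  exact ⟨fun S hS => bot_le, fun S hS => hb ▸ hS ⟨b, rfl⟩⟩

theorem isExhaustive_of_isFinite {K : SpSeq.FilObj A} (h : K.IsFinite) : K.IsExhaustive := by
  obtain ⟨⟨a, ha⟩, -⟩ := h
  exact ⟨fun S hS => le_top, fun S hS => ha ▸ hS ⟨a, rfl⟩⟩

theorem isComplete_of_isFinite {K : SpSeq.FilObj A} (h : K.IsFinite) : K.IsComplete := by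
  obtain ⟨-, b, hb⟩ := h
  intro T f hf
  have hiso : ∀ p, b ≤ p → IsIso (cokernel.π (K.fil p).arrow) := fun p hp => by
    have h0 : (K.fil p).arrow = 0 := by
      have e : K.fil p = ⊥ := le_antisymm (hb ▸ K.anti hp) bot_le
      rw [e, Subobject.bot_arrow]
    exact isIso_π_of_zero h0
  haveI := hiso b le_rfl
  refine ⟨f b ≫ inv (cokernel.π (K.fil b).arrow), fun p => ?_⟩
  have key : ∀ {q r : ℤ} (hqr : q ≤ r),
      cokernel.π (K.fil r).arrow ≫ K.quotMap hqr = cokernel.π (K.fil q).arrow :=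
    fun hqr => cokernel.π_desc _ _ _
  rcases le_total p b with hp | hp
  · rw [← hf p b hp, ← key hp]
    simp
  · haveI := hiso p hp
    haveI : IsIso (K.quotMap hp) := IsIso.of_isIso_fac_left (key hp)
    rw [← cancel_mono (K.quotMap hp), hf b p hp, Category.assoc, key hp]
    simp

variable (K : SpSeq.FilCx A)

theorem filX_top_iff (p n : ℤ) : K.filX p n = ⊤ ↔ IsIso ((K.fil p).arrow.f n) :=
  (Subobject.isIso_iff_mk_eq_top _).symm

theorem filX_bot_iff (p n : ℤ) : K.filX p n = ⊥ ↔ IsZero ((K.fil p : CochainComplex A ℤ).X n) := by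
  refine Subobject.mk_eq_bot_iff_zero.trans ⟨fun h => IsZero.of_mono_eq_zero _ h, fun h => ?_⟩
  exact h.eq_of_src _ _

theorem exists_bounds (hK : ∀ n : ℤ, (K.XFil n).IsFinite) (n : ℤ) :
    ∃ a b : ℤ, (∀ p, p ≤ a → K.filX p (n-1) = ⊤ ∧ K.filX p n = ⊤ ∧ K.filX p (n+1) = ⊤) ∧
      (∀ p, b ≤ p → K.filX p (n-1) = ⊥ ∧ K.filX p n = ⊥ ∧ K.filX p (n+1) = ⊥) := by
  obtain ⟨⟨a₀, ha₀⟩, b₀, hb₀⟩ := hK (n - 1)
  obtain ⟨⟨a₁, ha₁⟩, b₁, hb₁⟩ := hK n
  obtain ⟨⟨a₂, ha₂⟩, b₂, hb₂⟩ := hK (n + 1)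
  have up : ∀ m a p, K.filX a m = ⊤ → p ≤ a → K.filX p m = ⊤ := fun m a p h hp =>
    le_antisymm le_top (h ▸ K.filX_anti m hp)
  have down : ∀ m b p, K.filX b m = ⊥ → b ≤ p → K.filX p m = ⊥ := fun m b p h hp =>
    le_antisymm (h ▸ K.filX_anti m hp) bot_le
  refine ⟨min a₀ (min a₁ a₂), max b₀ (max b₁ b₂), fun p hp => ?_, fun p hp => ?_⟩
  · simp only [le_min_iff] at hp
    exact ⟨up _ _ _ ha₀ hp.1, up _ _ _ ha₁ hp.2.1, up _ _ _ ha₂ hp.2.2⟩
  · simp only [max_le_iff] at hp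
    exact ⟨down _ _ _ hb₀ hp.1, down _ _ _ hb₁ hp.2.1, down _ _ _ hb₂ hp.2.2⟩

theorem hFil_isFinite (hK : ∀ n : ℤ, (K.XFil n).IsFinite) (n : ℤ) : (K.HFil n).IsFinite := by
  obtain ⟨a, b, ha, hb⟩ := exists_bounds K hK n
  refine ⟨⟨a, ?_⟩, b, ?_⟩
  · obtain ⟨h₀, h₁, h₂⟩ := ha a le_rfl
    rw [filX_top_iff] at h₀ h₁ h₂
    haveI : IsIso ((HomologicalComplex.shortComplexFunctor A (ComplexShape.up ℤ) n).map
        (K.fil a).arrow) := by
      haveI : IsIso ((K.fil a).arrow.f ((ComplexShape.up ℤ).prev n)) := by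
        rw [CochainComplex.prev]; exact h₀
      haveI : IsIso ((K.fil a).arrow.f ((ComplexShape.up ℤ).next n)) := by
        rw [CochainComplex.next]; exact h₂
      haveI := h₁
      have i₁ : IsIso ((HomologicalComplex.shortComplexFunctor A (ComplexShape.up ℤ) n).map (K.fil a).arrow).τ₁ :=
        ‹IsIso ((K.fil a).arrow.f ((ComplexShape.up ℤ).prev n))›
      have i₂ : IsIso ((HomologicalComplex.shortComplexFunctor A (ComplexShape.up ℤ) n).map (K.fil a).arrow).τ₂ := h₁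
      have i₃ : IsIso ((HomologicalComplex.shortComplexFunctor A (ComplexShape.up ℤ) n).map (K.fil a).arrow).τ₃ :=
        ‹IsIso ((K.fil a).arrow.f ((ComplexShape.up ℤ).next n))›
      apply ShortComplex.isIso_of_isIso
    haveI : IsIso (HomologicalComplex.homologyMap (K.fil a).arrow n) :=
      inferInstanceAs (IsIso (ShortComplex.homologyMap
        ((HomologicalComplex.shortComplexFunctor A (ComplexShape.up ℤ) n).map (K.fil a).arrow)))
    show imageSubobject _ = ⊤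
    haveI : IsIso (imageSubobject (HomologicalComplex.homologyMap (K.fil a).arrow n)).arrow :=
      isIso_of_mono_of_epi' _
    exact Subobject.eq_top_of_isIso_arrow _
  · obtain ⟨-, h₁, -⟩ := hb b le_rfl
    rw [filX_bot_iff] at h₁
    have hz : IsZero ((K.fil b : CochainComplex A ℤ).homology n) :=
      (((HomologicalComplex.exactAt_iff _ n).mpr
        (ShortComplex.exact_of_isZero_X₂ _ h₁)).isZero_homology)
    show imageSubobject (HomologicalComplex.homologyMap (K.fil b).arrow n) = ⊥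
    exact imageSubobject_eq_bot (hz.eq_of_src _ _)

theorem isBounded_zero (hK : ∀ n : ℤ, (K.XFil n).IsFinite) : K.IsBounded 0 := by
  intro n
  obtain ⟨a, b, ha, hb⟩ := exists_bounds K hK n
  refine (Set.finite_Icc a b).subset fun p hp => ?_
  by_contra hmem
  refine hp (subquot_isZero_of_eq _ ?_)
  simp only [Set.mem_Icc, not_and_or, not_le] at hmem
  rcases hmem with h | h
  · unfold SpSeq.FilCx.ZSub SpSeq.FilCx.BSub
    rw [(ha (p + 1) (by omega)).2.1]
    simp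
  · unfold SpSeq.FilCx.ZSub SpSeq.FilCx.BSub
    rw [(hb p (by omega)).2.1, (hb (p + 1) (by omega)).2.1]
    simp

theorem ZTop_le_ZSub (r : ℕ) (p n : ℤ) : K.ZTop p n ≤ K.ZSub r p n :=
  sup_le_sup_right (inf_le_inf_left _ (SpSeq.FilCx.kernelSubobject_le_pullback _ _)) _

theorem BSub_le_BBot (r : ℕ) (p n : ℤ) : K.BSub r p n ≤ K.BBot p n :=
  sup_le_sup_right (inf_le_inf_left _ (imageSubobject_comp_le _ _)) _

theorem ZSub_eq_ZTop {r : ℕ} {p n : ℤ} (h : K.filX (p + r) (n + 1) = ⊥) :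
    K.ZSub r p n = K.ZTop p n := by
  unfold SpSeq.FilCx.ZSub SpSeq.FilCx.ZTop
  rw [h, pullback_bot]

theorem BSub_eq_BBot {r : ℕ} {p n : ℤ} (h : K.filX (p - r + 1) (n - 1) = ⊤) :
    K.BSub r p n = K.BBot p n := by
  unfold SpSeq.FilCx.BSub SpSeq.FilCx.BBot
  haveI : IsIso (K.filX (p - r + 1) (n - 1)).arrow := (Subobject.isIso_arrow_iff_eq_top _).mpr h
  rw [imageSubobject_iso_comp]

theorem converges (hK : ∀ n : ℤ, (K.XFil n).IsFinite) : K.Converges := by
  have hZ : ∀ p n : ℤ, ∃ r₀ : ℕ, ∀ r, r₀ ≤ r → K.ZSub r p n = K.ZTop p n := fun p n => by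
    obtain ⟨a, b, ha, hb⟩ := exists_bounds K hK n
    exact ⟨(b - p).toNat, fun r hr => ZSub_eq_ZTop K (hb _ (by omega)).2.2⟩
  have hB : ∀ p n : ℤ, ∃ r₀ : ℕ, ∀ r, r₀ ≤ r → K.BSub r p n = K.BBot p n := fun p n => by
    obtain ⟨a, b, ha, hb⟩ := exists_bounds K hK n
    exact ⟨(p + 1 - a).toNat, fun r hr => BSub_eq_BBot K (ha _ (by omega)).1⟩
  refine ⟨fun p n => ?_, ⟨fun p n => ⟨?_, ?_⟩, fun n =>
    ⟨isSeparated_of_isFinite (hFil_isFinite K hK n), isExhaustive_of_isFinite (hFil_isFinite K hK n)⟩⟩,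
    fun n => isComplete_of_isFinite (hFil_isFinite K hK n)⟩
  · obtain ⟨r₀, h⟩ := hZ p n
    exact ⟨r₀, fun r hr => by rw [h r hr, h r₀ le_rfl]⟩
  · obtain ⟨r₀, h⟩ := hZ p n
    exact ⟨by rintro _ ⟨r, rfl⟩; exact ZTop_le_ZSub K r p n,
      fun S hS => (hS ⟨r₀, rfl⟩).trans (h r₀ le_rfl).le⟩
  · obtain ⟨r₀, h⟩ := hB p n
    exact ⟨by rintro _ ⟨r, rfl⟩; exact BSub_le_BBot K r p n,
      fun S hS => (h r₀ le_rfl).ge.trans (hS ⟨r₀, rfl⟩)⟩

end Groth.Agent.SpFilLib
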