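import Groth.Agent.SpFilLib.Serre

/-! The abutment of the spectral sequence of a finitely filtered complex in a weak Serre class. -/

universe v u

open CategoryTheory CategoryTheory.Limits

noncomputable section

namespace Groth.Agent.SpFilLib

set_option linter.style.haveILetI false

variable {A : Type u} [Category.{v} A] [Abelian A]

theorem exists_iso_of_epi {C Q₁ Q₂ : A} (e₁ : C ⟶ Q₁) (e₂ : C ⟶ Q₂) [Epi e₁] [Epi e₂]
    (h₁₂ : ∀ {T : A} (t : T ⟶ C), t ≫ e₁ = 0 → t ≫ e₂ = 0)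
    (h₂₁ : ∀ {T : A} (t : T ⟶ C), t ≫ e₂ = 0 → t ≫ e₁ = 0) : Nonempty (Q₁ ≅ Q₂) := by
  refine ⟨⟨Abelian.epiDesc e₁ e₂ (h₁₂ _ (kernel.condition e₁)),
    Abelian.epiDesc e₂ e₁ (h₂₁ _ (kernel.condition e₂)), ?_, ?_⟩⟩
  · rw [← cancel_epi e₁, Abelian.comp_epiDesc_assoc, Abelian.comp_epiDesc, Category.comp_id]
  · rw [← cancel_epi e₂, Abelian.comp_epiDesc_assoc, Abelian.comp_epiDesc, Category.comp_id]

variable (K : SpSeq.FilCx A)

/-- The cohomology class of a generalized cocycle. -/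
def hcls {n : ℤ} {T : A} (x : T ⟶ K.obj.X n) (hx : x ≫ K.obj.d n (n + 1) = 0) :
    T ⟶ K.obj.homology n :=
  K.obj.liftCycles x (n + 1) (by simp) hx ≫ K.obj.homologyπ n

theorem hcls_comp {n : ℤ} {T T' : A} (π : T' ⟶ T) (x : T ⟶ K.obj.X n)
    (hx : x ≫ K.obj.d n (n + 1) = 0) :
    π ≫ hcls K x hx = hcls K (π ≫ x) (by rw [Category.assoc, hx, comp_zero]) := by
  unfold hcls
  rw [← Category.assoc, HomologicalComplex.comp_liftCycles]

theorem sub_cocycle {n : ℤ} {T : A} {x y : T ⟶ K.obj.X n} (hx : x ≫ K.obj.d n (n + 1) = 0)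
    (hy : y ≫ K.obj.d n (n + 1) = 0) : (x - y) ≫ K.obj.d n (n + 1) = 0 := by
  rw [Preadditive.sub_comp, hx, hy, sub_zero]

theorem hcls_sub {n : ℤ} {T : A} (x y : T ⟶ K.obj.X n) (hx : x ≫ K.obj.d n (n + 1) = 0)
    (hy : y ≫ K.obj.d n (n + 1) = 0) :
    hcls K (x - y) (sub_cocycle K hx hy) = hcls K x hx - hcls K y hy := by
  unfold hcls
  rw [← Preadditive.sub_comp]
  congr 1
  rw [← cancel_mono (K.obj.iCycles n), Preadditive.sub_comp, HomologicalComplex.liftCycles_i,
    HomologicalComplex.liftCycles_i, HomologicalComplex.liftCycles_i]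

theorem hcls_congr {n : ℤ} {T : A} {x y : T ⟶ K.obj.X n} (e : x = y)
    (hx : x ≫ K.obj.d n (n + 1) = 0) : hcls K x hx = hcls K y (e ▸ hx) := by
  subst e
  rfl

theorem hcls_eq_zero_iff {n : ℤ} {T : A} (x : T ⟶ K.obj.X n)
    (hx : x ≫ K.obj.d n (n + 1) = 0) :
    hcls K x hx = 0 ↔ ∃ (T' : A) (π : T' ⟶ T) (_ : Epi π) (y : T' ⟶ K.obj.X (n - 1)),
      π ≫ x = y ≫ K.obj.d (n - 1) n :=
  HomologicalComplex.liftCycles_comp_homologyπ_eq_zero_iff_up_to_refinements K.obj (n - 1) n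
    (n + 1) (by simp) (by simp) x hx

theorem filH_intro {p n : ℤ} {T : A} {x : T ⟶ K.obj.X n} (hx : F K p n x)
    (hd : x ≫ K.obj.d n (n + 1) = 0) : (K.filH p n).Factors (hcls K x hd) := by
  obtain ⟨a, rfl⟩ := exists_of_filX_factors K hx
  have hd' : a ≫ (K.fil p : CochainComplex A ℤ).d n (n + 1) = 0 := by
    rw [← cancel_mono ((K.fil p).arrow.f (n + 1)), Category.assoc, ← HomologicalComplex.Hom.comm,
      ← Category.assoc, hd, zero_comp]
  have e : hcls K _ hd = ((K.fil p : CochainComplex A ℤ).liftCycles a (n + 1) (by simp) hd' ≫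
      (K.fil p : CochainComplex A ℤ).homologyπ n) ≫
        HomologicalComplex.homologyMap (K.fil p).arrow n := by
    unfold hcls
    rw [Category.assoc, HomologicalComplex.homologyπ_naturality,
      HomologicalComplex.liftCycles_comp_cyclesMap_assoc]
  rw [e]
  exact imageSubobject_factors_comp_self _ _

theorem filH_elim {p n : ℤ} {T : A} {γ : T ⟶ K.obj.homology n} (h : (K.filH p n).Factors γ) :
    ∃ (T' : A) (π : T' ⟶ T) (_ : Epi π) (x : T' ⟶ K.obj.X n)
      (hd : x ≫ K.obj.d n (n + 1) = 0), F K p n x ∧ π ≫ γ = hcls K x hd := by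
  obtain ⟨T₁, π₁, _, u, hu⟩ := exists_of_imageSubobject_factors h
  obtain ⟨T₂, π₂, _, a, ha, e⟩ :=
    (K.fil p : CochainComplex A ℤ).eq_liftCycles_homologyπ_up_to_refinements u (n + 1) (by simp)
  have hd : (a ≫ (K.fil p).arrow.f n) ≫ K.obj.d n (n + 1) = 0 := by
    rw [Category.assoc, HomologicalComplex.Hom.comm, ← Category.assoc, ha, zero_comp]
  refine ⟨T₂, π₂ ≫ π₁, epi_comp _ _, a ≫ (K.fil p).arrow.f n, hd, filX_factors K a, ?_⟩
  rw [Category.assoc, hu, ← Category.assoc, e]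
  unfold hcls
  rw [Category.assoc, HomologicalComplex.homologyπ_naturality,
    HomologicalComplex.liftCycles_comp_cyclesMap_assoc]

theorem BBot_intro {p n : ℤ} {T : A} {y : T ⟶ K.obj.X (n - 1)} {b : T ⟶ K.obj.X n}
    (hdy : F K p n (y ≫ K.obj.d (n - 1) n)) (hb : F K (p + 1) n b) :
    (K.BBot p n).Factors (y ≫ K.obj.d (n - 1) n + b) :=
  Subobject.factors_add _ _ (Subobject.factors_of_le _ le_sup_left
    ((Subobject.inf_factors _).mpr ⟨hdy, imageSubobject_factors_comp_self _ _⟩))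
    (Subobject.factors_of_le _ le_sup_right hb)

theorem BBot_le_ZTop (p n : ℤ) : K.BBot p n ≤ K.ZTop p n :=
  sup_le_sup_right (inf_le_inf_left _ (le_kernelSubobject _ _
    (imageSubobject_arrow_comp_eq_zero (K.obj.d_comp_d _ _ _)))) _

theorem nonempty_gr_iso (p n : ℤ) :
    Nonempty (SpSeq.subquot (K.ZTop p n) (K.BBot p n) (BBot_le_ZTop K p n) ≅
      SpSeq.subquot (K.filH p n) (K.filH (p + 1) n) (K.filH_anti n (Int.le_add_one le_rfl))) := by
  set C := K.filX p n ⊓ kernelSubobject (K.obj.d n (n + 1))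
  have hC := (Subobject.inf_factors (X := K.filX p n)
    (Y := kernelSubobject (K.obj.d n (n + 1))) C.arrow).mp (Subobject.factors_self _)
  have hCd : C.arrow ≫ K.obj.d n (n + 1) = 0 := (kernelSubobject_factors_iff _ _).mp hC.2
  have hCZ : (K.ZTop p n).Factors C.arrow :=
    Subobject.factors_of_le _ le_sup_left (Subobject.factors_self _)
  set h1 := BBot_le_ZTop K p n
  set h2 : K.filH (p + 1) n ≤ K.filH p n := K.filH_anti n (Int.le_add_one le_rfl)
  set e₁ := cls h1 C.arrow hCZ with he₁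
  set e₂ := cls h2 (hcls K C.arrow hCd) (filH_intro K hC.1 hCd) with he₂
  haveI : Epi e₁ := by
    rw [epi_iff_surjective_up_to_refinements]
    intro T γ
    obtain ⟨T₁, π₁, _, x, hx, e⟩ := cls_surj h1 γ
    obtain ⟨T₂, π₂, _, a, b, ha, hb, e'⟩ := (factors_sup_iff _ _ _).mp hx
    refine ⟨T₂, π₂ ≫ π₁, epi_comp _ _, C.factorThru a ha, ?_⟩
    rw [he₁, cls_comp, Category.assoc, e, cls_comp, cls_congr _ e',
      cls_add_right h1 a b (Subobject.factors_of_le _ le_sup_left ha)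
        (Subobject.factors_of_le _ le_sup_right hb),
      cls_congr _ (Subobject.factorThru_arrow C a ha).symm]
  haveI : Epi e₂ := by
    rw [epi_iff_surjective_up_to_refinements]
    intro T γ
    obtain ⟨T₁, π₁, _, x, hx, e⟩ := cls_surj h2 γ
    obtain ⟨T₂, π₂, _, a, hd, ha, e'⟩ := filH_elim K hx
    have haC : C.Factors a := (Subobject.inf_factors _).mpr
      ⟨ha, (kernelSubobject_factors_iff _ _).mpr hd⟩
    refine ⟨T₂, π₂ ≫ π₁, epi_comp _ _, C.factorThru a haC, ?_⟩
    rw [he₂, cls_comp, Category.assoc, e, cls_comp, cls_congr _ e']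
    refine cls_congr _ ?_ _
    rw [hcls_comp]
    exact hcls_congr K (Subobject.factorThru_arrow C a haC).symm _
  refine exists_iso_of_epi e₁ e₂ (fun t h => ?_) (fun t h => ?_)
  · rw [he₁, cls_comp, cls_eq_zero_iff] at h
    rw [he₂, cls_comp, cls_eq_zero_iff, hcls_comp]
    obtain ⟨T₁, π₁, _, a, b, ha, hb, e⟩ := (factors_sup_iff _ _ _).mp h
    obtain ⟨-, ha₂⟩ := (Subobject.inf_factors _).mp ha
    obtain ⟨T₂, π₂, _, u, hu⟩ := exists_of_imageSubobject_factors ha₂
    refine factors_of_epi _ (π₂ ≫ π₁) _ ?_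
    have hbd : (π₂ ≫ b) ≫ K.obj.d n (n + 1) = 0 := by
      have h' : (π₁ ≫ t ≫ C.arrow) ≫ K.obj.d n (n + 1) = 0 := by
        simp only [Category.assoc, hCd, comp_zero]
      rw [e, Preadditive.add_comp] at h'
      rw [Category.assoc, eq_sub_of_add_eq' h', zero_sub, Preadditive.comp_neg, ← Category.assoc,
        hu, Category.assoc, K.obj.d_comp_d, comp_zero, neg_zero]
    have e' : hcls K ((π₂ ≫ π₁) ≫ t ≫ C.arrow) (by simp only [Category.assoc, hCd, comp_zero]) =
        hcls K (π₂ ≫ b) hbd := by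
      rw [← sub_eq_zero, ← hcls_sub, hcls_eq_zero_iff]
      refine ⟨T₂, 𝟙 _, inferInstance, u, ?_⟩
      rw [Category.id_comp, Category.assoc, e, Preadditive.comp_add, hu, add_sub_cancel_right]
    rw [hcls_comp, e']
    exact filH_intro K (Subobject.factors_of_factors_right _ hb) hbd
  · rw [he₂, cls_comp, cls_eq_zero_iff, hcls_comp] at h
    rw [he₁, cls_comp, cls_eq_zero_iff]
    obtain ⟨T₁, π₁, _, c, hd, hc, e⟩ := filH_elim K h
    rw [hcls_comp, ← sub_eq_zero, ← hcls_sub, hcls_eq_zero_iff] at e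
    obtain ⟨T₂, π₂, _, y, hy⟩ := e
    refine factors_of_epi _ (π₂ ≫ π₁) _ ?_
    have e3 : (π₂ ≫ π₁) ≫ t ≫ C.arrow = y ≫ K.obj.d (n - 1) n + π₂ ≫ c := by
      rw [← hy, Preadditive.comp_sub, Category.assoc, sub_add_cancel]
    have hcF : F K (p + 1) n (π₂ ≫ c) := Subobject.factors_of_factors_right _ hc
    rw [e3]
    refine BBot_intro K ?_ hcF
    rw [← hy, Preadditive.comp_sub, ← Category.assoc π₁, ← Category.assoc]
    exact factors_sub (Subobject.factors_of_factors_right _ hC.1)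
      (F_mono K (Int.le_add_one le_rfl) hcF)

theorem prop_of_eq {P : ObjectProperty A} {X : A} {Z Z' B B' : Subobject X} (h : B ≤ Z)
    (h' : B' ≤ Z') (eZ : Z = Z') (eB : B = B') (hP : P (SpSeq.subquot Z B h)) :
    P (SpSeq.subquot Z' B' h') := by
  subst eZ eB
  exact hP

theorem prop_homology {P : ObjectProperty A} [P.IsClosedUnderIsomorphisms] (hW : IsWeakSerre P)
    (hK : ∀ n : ℤ, (K.XFil n).IsFinite) (r : ℕ) (hr : ∀ p n : ℤ, P (K.E r p n)) (n : ℤ) :
    P (K.obj.homology n) := by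
  have hs : ∀ s : ℕ, r ≤ s → ∀ p n : ℤ, P (K.E s p n) := by
    intro s hs
    induction s, hs using Nat.le_induction with
    | base => exact hr
    | succ s _ ih => exact prop_E_succ K hW s ih
  obtain ⟨a, b, ha, hb⟩ := exists_bounds K hK n
  have hgr : ∀ p : ℤ, P (SpSeq.subquot (K.filH p n) (K.filH (p + 1) n)
      (K.filH_anti n (Int.le_add_one le_rfl))) := fun p => by
    obtain ⟨i⟩ := nonempty_gr_iso K p n
    set s := max r (max (b - p).toNat (p + 1 - a).toNat)
    refine P.prop_of_iso i (prop_of_eq (K.BSub_le_ZSub s p n) _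
      (ZSub_eq_ZTop K (hb _ ?_).2.2) (BSub_eq_BBot K (ha _ ?_).1) (hs s (le_max_left _ _) p n))
    · omega
    · omega
  obtain ⟨⟨a', ha'⟩, b', hb'⟩ := hFil_isFinite K hK n
  change K.filH a' n = ⊤ at ha'
  change K.filH b' n = ⊥ at hb'
  have hbot : ∀ p, b' ≤ p → P (K.filH p n : A) := fun p hp => by
    have e : K.filH p n = ⊥ := le_antisymm (hb' ▸ K.filH_anti n hp) bot_le
    rw [e]
    exact hW.of_isZero ((isZero_zero A).of_iso Subobject.botCoeIsoZero)
  have hall : ∀ (k : ℕ), P (K.filH (b' - k) n : A) := by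
    intro k
    induction k with
    | zero => exact hbot _ (by simp)
    | succ k ih =>
      have e : b' - (k : ℤ) = (b' - ((k + 1 : ℕ) : ℤ)) + 1 := by omega
      rw [e] at ih
      set p := b' - ((k + 1 : ℕ) : ℤ)
      set h2 : K.filH (p + 1) n ≤ K.filH p n := K.filH_anti n (Int.le_add_one le_rfl)
      exact hW.extension (f := (K.filH (p + 1) n).ofLE _ h2) (p := sqπ h2)
        (w := ofLE_sqπ h2)
        (ShortComplex.exact_of_g_is_cokernel _ (cokernelIsCokernel _)) ih (hgr p)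
  have htop : P (K.filH (min a' b') n : A) := by
    have := hall (b' - min a' b').toNat
    rwa [show b' - ((b' - min a' b').toNat : ℤ) = min a' b' by omega] at this
  haveI : IsIso (K.filH (min a' b') n).arrow := by
    rw [Subobject.isIso_arrow_iff_eq_top]
    exact le_antisymm le_top (ha' ▸ K.filH_anti n (min_le_left _ _))
  exact P.prop_of_iso (asIso (K.filH (min a' b') n).arrow) htop

end Groth.Agent.SpFilLib
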