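import Groth.Agent.SpFilLib.Finite

/-! Spectral sequences of filtered complexes with eventually acyclic or exhaustive steps. -/

universe v u

open CategoryTheory CategoryTheory.Limits

noncomputable section

namespace Groth.Agent.SpFilLib

set_option linter.style.haveILetI false

variable {A : Type u} [Category.{v} A] [Abelian A]

theorem factors_of_epi {T T' X : A} (S : Subobject X) (π : T' ⟶ T) [Epi π] (x : T ⟶ X)
    (h : S.Factors (π ≫ x)) : S.Factors x := by
  have h0 : x ≫ cokernel.π S.arrow = 0 := by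
    rw [← cancel_epi π, comp_zero, ← Category.assoc, ← S.factorThru_arrow _ h, Category.assoc,
      cokernel.condition, comp_zero]
  have := Subobject.factors_comp_arrow (P := S) (Abelian.monoLift S.arrow x h0)
  rwa [Abelian.monoLift_comp] at this

theorem le_of_forall {X : A} {S T : Subobject X}
    (h : ∃ (T' : A) (π : T' ⟶ (S : A)) (_ : Epi π), T.Factors (π ≫ S.arrow)) : S ≤ T := by
  obtain ⟨T', π, _, hπ⟩ := h
  have hS := factors_of_epi T π S.arrow hπ
  exact Subobject.le_of_comm (T.factorThru _ hS) (T.factorThru_arrow _ hS)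

variable (K : SpSeq.FilCx A)

theorem filX_factors {T : A} {p n : ℤ} (a : T ⟶ (K.fil p : CochainComplex A ℤ).X n) :
    (K.filX p n).Factors (a ≫ (K.fil p).arrow.f n) :=
  (Subobject.mk_factors_iff _ _).mpr ⟨a, rfl⟩

theorem exists_of_filX_factors {T : A} {p n : ℤ} {x : T ⟶ K.obj.X n}
    (h : (K.filX p n).Factors x) : ∃ a, a ≫ (K.fil p).arrow.f n = x :=
  (Subobject.mk_factors_iff _ _).mp h

theorem stepLE_f {p q : ℤ} (h : p ≤ q) (n : ℤ) :
    (K.stepLE h).f n ≫ (K.fil p).arrow.f n = (K.fil q).arrow.f n := by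
  rw [← HomologicalComplex.comp_f, Subobject.ofLE_arrow]

theorem ZSub_one_le_BSub_one {p n : ℤ}
    (he : Epi (HomologicalComplex.homologyMap (K.stepLE (Int.le_add_one (le_refl p))) n))
    (hm : Mono (HomologicalComplex.homologyMap (K.stepLE (Int.le_add_one (le_refl p))) (n + 1))) :
    K.ZSub 1 p n ≤ K.BSub 1 p n := by
  refine sup_le ?_ le_sup_right
  apply le_of_forall
  set S := K.filX p n ⊓ (Subobject.pullback (K.obj.d n (n + 1))).obj (K.filX (p + (1:ℕ)) (n + 1))
  obtain ⟨hx₁, hx₂⟩ := (Subobject.inf_factors _).mp (Subobject.factors_self S)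
  obtain ⟨a, ha⟩ := exists_of_filX_factors K hx₁
  obtain ⟨b, hb⟩ := exists_of_filX_factors K ((Limits.pullback_factors_iff _ _ _).mp hx₂)
  have hp : p + ((1 : ℕ) : ℤ) = p + 1 := rfl
  set ι := K.stepLE (Int.le_add_one (le_refl p))
  have hι : ∀ m, ι.f m ≫ (K.fil p).arrow.f m = (K.fil (p + 1)).arrow.f m := stepLE_f K _
  have hb0 : b ≫ (K.fil (p + 1) : CochainComplex A ℤ).d (n + 1) (n + 1 + 1) = 0 := by
    rw [← cancel_mono ((K.fil (p + 1)).arrow.f (n + 1 + 1)), Category.assoc,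
      ← HomologicalComplex.Hom.comm, ← Category.assoc, zero_comp]
    rw [show b ≫ (K.fil (p + 1)).arrow.f (n + 1) = _ from hb, Category.assoc]
    simp
  have hab : a ≫ (K.fil p : CochainComplex A ℤ).d n (n + 1) = b ≫ ι.f (n + 1) := by
    rw [← cancel_mono ((K.fil p).arrow.f (n + 1)), Category.assoc, Category.assoc, hι,
      ← HomologicalComplex.Hom.comm, ← Category.assoc, ha]
    exact hb.symm
  obtain ⟨T₁, π₁, _, y, hy⟩ := (HomologicalComplex.mono_homologyMap_iff_up_to_refinements ι n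
    (n + 1) (n + 1 + 1) (by simp) (by simp)).mp hm b hb0 a hab.symm
  have hc : (π₁ ≫ a - y ≫ ι.f n) ≫ (K.fil p : CochainComplex A ℤ).d n (n + 1) = 0 := by
    rw [Preadditive.sub_comp, Category.assoc, hab, Category.assoc, HomologicalComplex.Hom.comm,
      ← Category.assoc, ← Category.assoc, hy, sub_self]
  obtain ⟨T₂, π₂, _, w, hw, z, hz⟩ := (HomologicalComplex.epi_homologyMap_iff_up_to_refinements ι
    (n - 1) n (n + 1) (by simp) (by simp)).mp he _ hc
  refine ⟨T₂, π₂ ≫ π₁, epi_comp _ _, ?_⟩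
  have e : (π₂ ≫ π₁) ≫ S.arrow = (π₂ ≫ y + w) ≫ (K.fil (p + 1)).arrow.f n +
      (z ≫ (K.fil p : CochainComplex A ℤ).d (n - 1) n) ≫ (K.fil p).arrow.f n := by
    have h2 := hz
    rw [Preadditive.comp_sub, sub_eq_iff_eq_add] at h2
    rw [← hι, ← ha]
    simp only [← Category.assoc]
    rw [show ((π₂ ≫ π₁) ≫ a) = π₂ ≫ π₁ ≫ a from Category.assoc _ _ _, h2]
    simp only [Preadditive.add_comp, Category.assoc]
    abel
  rw [e]
  refine Subobject.factors_add _ _ (Subobject.factors_of_le _ le_sup_right (filX_factors K _))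
    (Subobject.factors_of_le _ le_sup_left ((Subobject.inf_factors _).mpr ⟨filX_factors K _, ?_⟩))
  rw [Category.assoc, ← HomologicalComplex.Hom.comm, ← Category.assoc]
  have e2 : p - ((1 : ℕ) : ℤ) + 1 = p := by omega
  obtain ⟨v, hv⟩ : ∃ v : T₂ ⟶ (K.filX (p - ((1 : ℕ) : ℤ) + 1) (n - 1) : A),
      v ≫ (K.filX (p - ((1 : ℕ) : ℤ) + 1) (n - 1)).arrow = z ≫ (K.fil p).arrow.f (n - 1) := by
    have : (K.filX (p - ((1 : ℕ) : ℤ) + 1) (n - 1)).Factors (z ≫ (K.fil p).arrow.f (n - 1)) := by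
      rw [e2]; exact filX_factors K _
    exact ⟨_, Subobject.factorThru_arrow _ _ this⟩
  rw [← hv, Category.assoc]
  exact imageSubobject_factors_comp_self _ _

theorem ZSub_le_ZTop {r : ℕ} {p n : ℤ} (hr : 1 ≤ r)
    (hz : IsZero ((K.fil (p + r) : CochainComplex A ℤ).homology (n + 1))) :
    K.ZSub r p n ≤ K.ZTop p n := by
  refine sup_le ?_ le_sup_right
  apply le_of_forall
  set S := K.filX p n ⊓ (Subobject.pullback (K.obj.d n (n + 1))).obj (K.filX (p + r) (n + 1))
  obtain ⟨hx₁, hx₂⟩ := (Subobject.inf_factors _).mp (Subobject.factors_self S)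
  obtain ⟨b, hb⟩ := exists_of_filX_factors K ((Limits.pullback_factors_iff _ _ _).mp hx₂)
  have hb0 : b ≫ (K.fil (p + r) : CochainComplex A ℤ).d (n + 1) (n + 1 + 1) = 0 := by
    rw [← cancel_mono ((K.fil (p + r)).arrow.f (n + 1 + 1)), Category.assoc,
      ← HomologicalComplex.Hom.comm, ← Category.assoc, hb, zero_comp]
    simp
  obtain ⟨T₁, π₁, _, y, hy⟩ := ((HomologicalComplex.exactAt_iff_exact_up_to_refinements _ n (n + 1)
    (n + 1 + 1) (by simp) (by simp)).mp
      ((HomologicalComplex.exactAt_iff_isZero_homology _ _).mpr hz)) b hb0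
  refine ⟨T₁, π₁, inferInstance, ?_⟩
  rw [← sub_add_cancel (π₁ ≫ S.arrow) (y ≫ (K.fil (p + r)).arrow.f n)]
  have hy' : (K.filX (p + 1) n).Factors (y ≫ (K.fil (p + r)).arrow.f n) :=
    Subobject.factors_of_le _ (K.filX_anti n (by omega : p + 1 ≤ p + r)) (filX_factors K _)
  have hy'' : (K.filX p n).Factors (y ≫ (K.fil (p + r)).arrow.f n) :=
    Subobject.factors_of_le _ (K.filX_anti n (by omega : p ≤ p + 1)) hy'
  refine Subobject.factors_add _ _ (Subobject.factors_of_le _ le_sup_left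
    ((Subobject.inf_factors _).mpr ⟨?_, ?_⟩)) (Subobject.factors_of_le _ le_sup_right hy')
  · rw [sub_eq_add_neg]
    refine Subobject.factors_add _ _ (Subobject.factors_of_le _ le_rfl
      (Subobject.factors_of_factors_right _ hx₁)) ?_
    rw [← Preadditive.neg_comp]
    exact Subobject.factors_of_le _ (K.filX_anti n (by omega : p ≤ p + (r:ℤ))) (filX_factors K _)
  · apply kernelSubobject_factors
    rw [Preadditive.sub_comp, Category.assoc, Category.assoc, HomologicalComplex.Hom.comm,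
      ← hb, ← Category.assoc π₁, hy, Category.assoc, sub_self]

theorem BBot_le_BSub {r : ℕ} {p n : ℤ} (hr : 1 ≤ r)
    (hm : Mono (HomologicalComplex.homologyMap (K.fil (p - r + 1)).arrow n)) :
    K.BBot p n ≤ K.BSub r p n := by
  refine sup_le ?_ le_sup_right
  apply le_of_forall
  set S := K.filX p n ⊓ imageSubobject (K.obj.d (n - 1) n)
  obtain ⟨hx₁, hx₂⟩ := (Subobject.inf_factors _).mp (Subobject.factors_self S)
  obtain ⟨a, ha⟩ := exists_of_filX_factors K
    (Subobject.factors_of_le _ (K.filX_anti n (by omega : p - r + 1 ≤ p)) hx₁)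
  set c := (imageSubobject (K.obj.d (n - 1) n)).factorThru S.arrow hx₂
  obtain ⟨T₀, π₀, _, u, hu⟩ := surjective_up_to_refinements_of_epi
    (factorThruImageSubobject (K.obj.d (n - 1) n)) c
  have hu' : π₀ ≫ S.arrow = u ≫ K.obj.d (n - 1) n := by
    have hc' : c ≫ (imageSubobject (K.obj.d (n - 1) n)).arrow = S.arrow :=
      Subobject.factorThru_arrow _ _ _
    rw [← hc', ← Category.assoc, hu, Category.assoc, imageSubobject_arrow_comp]
  have h0 : (π₀ ≫ a) ≫ (K.fil (p - r + 1) : CochainComplex A ℤ).d n (n + 1) = 0 := by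
    rw [← cancel_mono ((K.fil (p - r + 1)).arrow.f (n + 1)), Category.assoc,
      ← HomologicalComplex.Hom.comm, ← Category.assoc, Category.assoc π₀, ha, hu', zero_comp]
    simp
  obtain ⟨T₁, π₁, _, y, hy⟩ := (HomologicalComplex.mono_homologyMap_iff_up_to_refinements _ (n - 1)
    n (n + 1) (by simp) (by simp)).mp hm (π₀ ≫ a) h0 u (by rw [Category.assoc, ha, hu'])
  refine ⟨T₁, π₁ ≫ π₀, epi_comp _ _, Subobject.factors_of_le _ le_sup_left
    ((Subobject.inf_factors _).mpr ⟨Subobject.factors_of_le _ le_rfl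
      (Subobject.factors_of_factors_right _ hx₁), ?_⟩)⟩
  rw [← ha, ← Category.assoc, Category.assoc π₁, hy, Category.assoc, ← HomologicalComplex.Hom.comm,
    ← Category.assoc]
  obtain ⟨v, hv⟩ : ∃ v, v ≫ (K.filX (p - r + 1) (n - 1)).arrow
      = y ≫ (K.fil (p - r + 1)).arrow.f (n - 1) :=
    ⟨_, Subobject.factorThru_arrow _ _ (filX_factors K y)⟩
  rw [← hv, Category.assoc]
  exact imageSubobject_factors_comp_self _ _

theorem isIso_homologyMap_step {p n : ℤ}
    (h : (IsZero ((K.fil p : CochainComplex A ℤ).homology n) ∧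
        IsZero ((K.fil (p + 1) : CochainComplex A ℤ).homology n)) ∨
      (IsIso (HomologicalComplex.homologyMap (K.fil p).arrow n) ∧
        IsIso (HomologicalComplex.homologyMap (K.fil (p + 1)).arrow n))) :
    IsIso (HomologicalComplex.homologyMap (K.stepLE (Int.le_add_one (le_refl p))) n) := by
  rcases h with ⟨h₁, h₂⟩ | ⟨h₁, h₂⟩
  · exact ⟨0, h₂.eq_of_src _ _, h₁.eq_of_src _ _⟩
  · haveI := h₁
    haveI := h₂
    have e : HomologicalComplex.homologyMap (K.stepLE (Int.le_add_one (le_refl p))) n ≫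
        HomologicalComplex.homologyMap (K.fil p).arrow n =
          HomologicalComplex.homologyMap (K.fil (p + 1)).arrow n := by
      rw [← HomologicalComplex.homologyMap_comp, Subobject.ofLE_arrow]
    exact IsIso.of_isIso_fac_right e

theorem of_acyclic (h0 : ∀ n : ℤ, ∃ p₀ : ℤ, ∀ p : ℤ, p₀ ≤ p →
      IsZero ((K.fil p : CochainComplex A ℤ).homology n))
    (h1 : ∀ n : ℤ, ∃ p₁ : ℤ, ∀ p : ℤ, p ≤ p₁ →
      IsIso (HomologicalComplex.homologyMap (K.fil p).arrow n)) :
    K.IsBounded 1 ∧ (∀ n : ℤ, (K.HFil n).IsFinite) ∧ K.Converges := by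
  choose p₀ hp₀ using h0
  choose p₁ hp₁ using h1
  have hfin : ∀ n : ℤ, (K.HFil n).IsFinite := fun n => by
    refine ⟨⟨p₁ n, ?_⟩, p₀ n, imageSubobject_eq_bot ((hp₀ n _ le_rfl).eq_of_src _ _)⟩
    haveI := hp₁ n _ le_rfl
    haveI := isIso_of_mono_of_epi' (HomologicalComplex.homologyMap (K.fil (p₁ n)).arrow n)
    show imageSubobject (HomologicalComplex.homologyMap (K.fil (p₁ n)).arrow n) = ⊤
    exact Subobject.eq_top_of_isIso_arrow _
  refine ⟨fun n => ?_, hfin, fun p n => ?_, ⟨fun p n => ⟨?_, ?_⟩, fun n =>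
    ⟨isSeparated_of_isFinite (hfin n), isExhaustive_of_isFinite (hfin n)⟩⟩,
    fun n => isComplete_of_isFinite (hfin n)⟩
  · refine (Set.finite_Icc (min (p₁ n) (p₁ (n + 1))) (max (p₀ n) (p₀ (n + 1)))).subset fun p hp => ?_
    by_contra hmem
    refine hp (subquot_isZero_of_eq _ ?_)
    simp only [Set.mem_Icc, not_and_or, not_le, max_lt_iff, lt_min_iff] at hmem
    have hi : ∀ m, m = n ∨ m = n + 1 →
        IsIso (HomologicalComplex.homologyMap (K.stepLE (Int.le_add_one (le_refl p))) m) := by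
      intro m hm
      apply isIso_homologyMap_step
      rcases hmem with h | h
      · exact Or.inr ⟨hp₁ m p (by rcases hm with rfl | rfl <;> omega),
          hp₁ m _ (by rcases hm with rfl | rfl <;> omega)⟩
      · exact Or.inl ⟨hp₀ m p (by rcases hm with rfl | rfl <;> omega),
          hp₀ m _ (by rcases hm with rfl | rfl <;> omega)⟩
    haveI := hi n (Or.inl rfl)
    haveI := hi (n + 1) (Or.inr rfl)
    exact ZSub_one_le_BSub_one K inferInstance inferInstance
  · refine ⟨(p₀ (n + 1) - p).toNat + 1, fun r hr => ?_⟩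
    have h : ∀ r : ℕ, (p₀ (n + 1) - p).toNat + 1 ≤ r → K.ZSub r p n = K.ZTop p n := fun r hr =>
      le_antisymm (ZSub_le_ZTop K (by omega) (hp₀ _ _ (by omega))) (ZTop_le_ZSub K r p n)
    rw [h r hr, h _ le_rfl]
  · exact ⟨by rintro _ ⟨r, rfl⟩; exact ZTop_le_ZSub K r p n, fun S hS =>
      (hS ⟨(p₀ (n + 1) - p).toNat + 1, rfl⟩).trans
        (ZSub_le_ZTop K (by omega) (hp₀ _ _ (by omega)))⟩
  · refine ⟨by rintro _ ⟨r, rfl⟩; exact BSub_le_BBot K r p n, fun S hS => ?_⟩
    haveI := hp₁ n (p - (((p + 1 - p₁ n).toNat + 1 : ℕ) : ℤ) + 1) (by omega)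
    exact (BBot_le_BSub K (r := (p + 1 - p₁ n).toNat + 1) (by omega) inferInstance).trans
      (hS ⟨_, rfl⟩)

end Groth.Agent.SpFilLib
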