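import Groth.Agent.SpFilLib.Serre

/-! Pushouts and pullbacks of filtered objects. -/

universe v u

open CategoryTheory CategoryTheory.Limits

noncomputable section

namespace Groth.Agent.SpFilLib

set_option linter.style.haveILetI false

variable {A : Type u} [Category.{v} A] [Abelian A] {K L M : SpSeq.FilObj A}

theorem image_le_iff {X Y : A} (f : X ⟶ Y) (S : Subobject Y) :
    imageSubobject f ≤ S ↔ S.Factors f := by
  refine ⟨fun h => Subobject.factors_of_le _ h ?_, fun h => ?_⟩
  · have := Subobject.factors_comp_arrow (P := imageSubobject f) (factorThruImageSubobject f)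
    rwa [imageSubobject_arrow_comp] at this
  · exact imageSubobject_le f (S.factorThru f h) (S.factorThru_arrow f h)

theorem factors_hom (f : K ⟶ L) {p : ℤ} {T : A} {x : T ⟶ K.obj} (hx : (K.fil p).Factors x) :
    (L.fil p).Factors (x ≫ f.hom) :=
  (Limits.pullback_factors_iff _ _ _).mp (Subobject.factors_of_le _ (f.compat p) hx)

/-- A morphism of filtered objects from its effect on the steps. -/
def mkHom (f : K.obj ⟶ L.obj) (h : ∀ p, (L.fil p).Factors ((K.fil p).arrow ≫ f)) : K ⟶ L where
  hom := f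
  compat p :=
    have hp : ((Subobject.pullback f).obj (L.fil p)).Factors (K.fil p).arrow :=
      (Limits.pullback_factors_iff _ _ _).mpr (h p)
    Subobject.le_of_comm (Subobject.factorThru _ _ hp) (Subobject.factorThru_arrow _ _ hp)

@[ext]
theorem hom_ext {f g : K ⟶ L} (h : f.hom = g.hom) : f = g := SpSeq.FilObj.Hom.ext h

theorem comp_hom (f : K ⟶ L) (g : L ⟶ M) : (f ≫ g).hom = f.hom ≫ g.hom := rfl

theorem isStrict_iff (f : K ⟶ L) : SpSeq.FilObj.IsStrict f ↔
    ∀ (p : ℤ) (T : A) (y : T ⟶ L.obj), (imageSubobject f.hom).Factors y → (L.fil p).Factors y →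
      ∃ (T' : A) (π : T' ⟶ T) (_ : Epi π) (x : T' ⟶ K.obj),
        (K.fil p).Factors x ∧ π ≫ y = x ≫ f.hom := by
  constructor
  · intro hf p T y h₁ h₂
    have h := (Subobject.inf_factors _).mpr ⟨h₁, h₂⟩
    rw [← hf p] at h
    obtain ⟨T', π, _, u, hu⟩ := exists_of_imageSubobject_factors h
    exact ⟨T', π, inferInstance, u ≫ (K.fil p).arrow, Subobject.factors_comp_arrow u,
      by rw [hu, Category.assoc]⟩
  · intro h p
    refine le_antisymm (le_inf (imageSubobject_comp_le _ _)
      ((image_le_iff _ _).mpr (factors_hom f (Subobject.factors_self _)))) ?_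
    apply le_of_forall
    set S := imageSubobject f.hom ⊓ L.fil p
    obtain ⟨h₁, h₂⟩ := (Subobject.inf_factors S.arrow).mp (Subobject.factors_self S)
    obtain ⟨T', π, _, x, hx, e⟩ := h p _ S.arrow h₁ h₂
    refine ⟨T', π, inferInstance, ?_⟩
    rw [e, ← Subobject.factorThru_arrow _ x hx, Category.assoc]
    exact imageSubobject_factors_comp_self _ _

theorem isStrict_comp_iso (f : K ⟶ L) (e : L ≅ M) (hf : SpSeq.FilObj.IsStrict f) :
    SpSeq.FilObj.IsStrict (f ≫ e.hom) := by
  rw [isStrict_iff] at hf ⊢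
  intro p T y h₁ h₂
  have hi : (imageSubobject f.hom).Factors (y ≫ e.inv.hom) := by
    obtain ⟨T', π, _, u, hu⟩ := exists_of_imageSubobject_factors h₁
    refine factors_of_epi _ π _ ?_
    rw [← Category.assoc, hu, comp_hom, Category.assoc, Category.assoc, ← comp_hom, e.hom_inv_id]
    show (imageSubobject f.hom).Factors (u ≫ f.hom ≫ 𝟙 _)
    rw [Category.comp_id]
    exact imageSubobject_factors_comp_self _ _
  obtain ⟨T', π, _, x, hx, hπ⟩ := hf p T _ hi (factors_hom e.inv h₂)
  refine ⟨T', π, inferInstance, x, hx, ?_⟩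
  rw [comp_hom, ← Category.assoc x, ← hπ, Category.assoc, Category.assoc, ← comp_hom, e.inv_hom_id]
  show π ≫ y = π ≫ y ≫ 𝟙 _
  rw [Category.comp_id]

theorem isStrict_iso_comp (e : K ≅ L) (f : L ⟶ M) (hf : SpSeq.FilObj.IsStrict f) :
    SpSeq.FilObj.IsStrict (e.hom ≫ f) := by
  rw [isStrict_iff] at hf ⊢
  intro p T y h₁ h₂
  obtain ⟨T', π, _, x, hx, hπ⟩ := hf p T y
    (Subobject.factors_of_le _ (imageSubobject_comp_le e.hom.hom f.hom) h₁) h₂
  refine ⟨T', π, inferInstance, x ≫ e.inv.hom, factors_hom e.inv hx, hπ.trans ?_⟩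
  rw [comp_hom, Category.assoc, ← Category.assoc e.inv.hom, ← comp_hom, e.inv_hom_id]
  show x ≫ f.hom = x ≫ 𝟙 _ ≫ f.hom
  rw [Category.id_comp]

/-! ### Pushouts -/

variable (f : K ⟶ L) (g : K ⟶ M)

/-- The pushout of filtered objects. -/
abbrev pushObj : SpSeq.FilObj A where
  obj := pushout f.hom g.hom
  fil p := imageSubobject ((L.fil p).arrow ≫ pushout.inl f.hom g.hom) ⊔
    imageSubobject ((M.fil p).arrow ≫ pushout.inr f.hom g.hom)
  anti p q h := sup_le_sup
    (SpSeq.FilCx.imageSubobject_le_of_fac ((L.fil q).ofLE _ (L.anti h))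
      (by rw [← Category.assoc, Subobject.ofLE_arrow]))
    (SpSeq.FilCx.imageSubobject_le_of_fac ((M.fil q).ofLE _ (M.anti h))
      (by rw [← Category.assoc, Subobject.ofLE_arrow]))

/-- The first inclusion. -/
def pushInl : L ⟶ pushObj f g := mkHom (pushout.inl f.hom g.hom) fun _ =>
  Subobject.factors_of_le _ le_sup_left ((image_le_iff _ _).mp le_rfl)

/-- The second inclusion. -/
def pushInr : M ⟶ pushObj f g := mkHom (pushout.inr f.hom g.hom) fun _ =>
  Subobject.factors_of_le _ le_sup_right ((image_le_iff _ _).mp le_rfl)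

theorem push_w : f ≫ pushInl f g = g ≫ pushInr f g := hom_ext pushout.condition

theorem isPushout_pushObj : IsPushout f g (pushInl f g) (pushInr f g) := by
  refine IsPushout.of_isColimit' ⟨push_w f g⟩ (PushoutCocone.IsColimit.mk _
    (fun s => mkHom (pushout.desc s.inl.hom s.inr.hom
      (congrArg SpSeq.FilObj.Hom.hom s.condition)) fun p => ?_)
    (fun s => hom_ext (pushout.inl_desc _ _ _)) (fun s => hom_ext (pushout.inr_desc _ _ _))
    (fun s m h₁ h₂ => hom_ext (pushout.hom_ext ?_ ?_)))
  · set d := pushout.desc s.inl.hom s.inr.hom (congrArg SpSeq.FilObj.Hom.hom s.condition)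
    have h : (pushObj f g).fil p ≤ (Subobject.pullback d).obj (s.pt.fil p) := by
      refine sup_le ((image_le_iff _ _).mpr ?_) ((image_le_iff _ _).mpr ?_)
      · rw [Limits.pullback_factors_iff, Category.assoc]
        erw [pushout.inl_desc]
        exact factors_hom s.inl (Subobject.factors_self _)
      · rw [Limits.pullback_factors_iff, Category.assoc]
        erw [pushout.inr_desc]
        exact factors_hom s.inr (Subobject.factors_self _)
    exact (Limits.pullback_factors_iff _ _ _).mp
      (Subobject.factors_of_le _ h (Subobject.factors_self _))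
  · exact (congrArg SpSeq.FilObj.Hom.hom h₁).trans (pushout.inl_desc _ _ _).symm
  · exact (congrArg SpSeq.FilObj.Hom.hom h₂).trans (pushout.inr_desc _ _ _).symm

theorem isStrict_pushInr (hf : SpSeq.FilObj.IsStrict f) : SpSeq.FilObj.IsStrict (pushInr f g) := by
  rw [isStrict_iff] at hf ⊢
  intro p T (y : T ⟶ pushout f.hom g.hom) h₁ h₂
  obtain ⟨T₁, π₁, _, m, hm⟩ := exists_of_imageSubobject_factors h₁
  obtain ⟨T₂, π₂, _, a, b, ha, hb, e⟩ := (factors_sup_iff _ _ _).mp
    (Subobject.factors_of_factors_right π₁ h₂)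
  obtain ⟨T₃, π₃, _, la, hla⟩ := exists_of_imageSubobject_factors ha
  obtain ⟨T₄, π₄, _, mb, hmb⟩ := exists_of_imageSubobject_factors
    (Subobject.factors_of_factors_right π₃ hb)
  set l := π₄ ≫ la ≫ (L.fil p).arrow
  set m' := π₄ ≫ π₃ ≫ π₂ ≫ m - mb ≫ (M.fil p).arrow
  change π₁ ≫ y = m ≫ pushout.inr f.hom g.hom at hm
  have hla' : π₃ ≫ a = la ≫ (L.fil p).arrow ≫ pushout.inl f.hom g.hom := hla
  have hmb' : π₄ ≫ π₃ ≫ b = mb ≫ (M.fil p).arrow ≫ pushout.inr f.hom g.hom := hmb
  have h0 : biprod.lift l (-m') ≫ biprod.desc (pushout.inl f.hom g.hom) (pushout.inr f.hom g.hom)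
      = 0 := by
    rw [biprod.lift_desc, Preadditive.neg_comp, ← sub_eq_add_neg]
    simp only [l, m', Preadditive.sub_comp, Category.assoc]
    rw [← hla', ← hm, ← hmb', e, Preadditive.comp_add, Preadditive.comp_add]
    abel
  obtain ⟨T₅, π₅, _, k, hk⟩ := (IsPushout.of_hasPushout f.hom g.hom).exact_shortComplex
    |>.exact_up_to_refinements (biprod.lift l (-m')) h0
  have hk₁ : π₅ ≫ l = k ≫ f.hom := by
    have hk' : π₅ ≫ biprod.lift l (-m') = k ≫ biprod.lift f.hom (-g.hom) := hk
    have hk'' := congrArg (· ≫ biprod.fst) hk'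
    simp only [Category.assoc, biprod.lift_fst] at hk''
    first
      | exact hk''
      | (erw [biprod.lift_fst] at hk''; exact hk'')
  have hlL : (L.fil p).Factors (π₅ ≫ l) := Subobject.factors_of_factors_right _
    (Subobject.factors_of_factors_right _ (Subobject.factors_comp_arrow la))
  obtain ⟨T₆, π₆, _, k', hk', ek⟩ := hf p _ (π₅ ≫ l)
    (by rw [hk₁]; exact imageSubobject_factors_comp_self _ _) hlL
  refine ⟨T₆, π₆ ≫ π₅ ≫ π₄ ≫ π₃ ≫ π₂ ≫ π₁, inferInstance,
    k' ≫ g.hom + π₆ ≫ π₅ ≫ mb ≫ (M.fil p).arrow, ?_, ?_⟩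
  · exact Subobject.factors_add _ _ (factors_hom g hk') (Subobject.factors_of_factors_right _
      (Subobject.factors_of_factors_right _ (Subobject.factors_comp_arrow mb)))
  · show _ = _ ≫ pushout.inr f.hom g.hom
    simp only [Category.assoc, Preadditive.add_comp]
    rw [← pushout.condition, ← Category.assoc k', ← ek, e]
    simp only [l, Category.assoc, Preadditive.comp_add]
    rw [← hla', ← hmb']

/-! ### Pullbacks -/

variable (f' : L ⟶ K) (g' : M ⟶ K)

/-- The pullback of filtered objects. -/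
abbrev pullObj : SpSeq.FilObj A where
  obj := pullback f'.hom g'.hom
  fil p := (Subobject.pullback (pullback.fst f'.hom g'.hom)).obj (L.fil p) ⊓
    (Subobject.pullback (pullback.snd f'.hom g'.hom)).obj (M.fil p)
  anti p q h := inf_le_inf (leOfHom ((Subobject.pullback _).map (homOfLE (L.anti h))))
    (leOfHom ((Subobject.pullback _).map (homOfLE (M.anti h))))

theorem pullObj_factors {p : ℤ} {T : A} (x : T ⟶ pullback f'.hom g'.hom) :
    ((pullObj f' g').fil p).Factors x ↔ (L.fil p).Factors (x ≫ pullback.fst f'.hom g'.hom) ∧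
      (M.fil p).Factors (x ≫ pullback.snd f'.hom g'.hom) :=
  (Subobject.inf_factors _).trans
    (and_congr (Limits.pullback_factors_iff _ _ _) (Limits.pullback_factors_iff _ _ _))

/-- The first projection. -/
def pullFst : pullObj f' g' ⟶ L := mkHom (pullback.fst f'.hom g'.hom) fun _ =>
  ((pullObj_factors f' g' _).mp (Subobject.factors_self _)).1

/-- The second projection. -/
def pullSnd : pullObj f' g' ⟶ M := mkHom (pullback.snd f'.hom g'.hom) fun _ =>
  ((pullObj_factors f' g' _).mp (Subobject.factors_self _)).2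

theorem isPullback_pullObj : IsPullback (pullFst f' g') (pullSnd f' g') f' g' := by
  refine IsPullback.of_isLimit' ⟨hom_ext pullback.condition⟩ (PullbackCone.IsLimit.mk _
    (fun s => mkHom (pullback.lift s.fst.hom s.snd.hom
      (congrArg SpSeq.FilObj.Hom.hom s.condition)) fun p => (pullObj_factors f' g' _).mpr ⟨?_, ?_⟩)
    (fun s => hom_ext (pullback.lift_fst _ _ _)) (fun s => hom_ext (pullback.lift_snd _ _ _))
    (fun s m h₁ h₂ => hom_ext (pullback.hom_ext ?_ ?_)))
  · rw [Category.assoc, pullback.lift_fst]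
    exact factors_hom s.fst (Subobject.factors_self _)
  · rw [Category.assoc, pullback.lift_snd]
    exact factors_hom s.snd (Subobject.factors_self _)
  · exact (congrArg SpSeq.FilObj.Hom.hom h₁).trans (pullback.lift_fst _ _ _).symm
  · exact (congrArg SpSeq.FilObj.Hom.hom h₂).trans (pullback.lift_snd _ _ _).symm

theorem isStrict_pullSnd (hf : SpSeq.FilObj.IsStrict f') :
    SpSeq.FilObj.IsStrict (pullSnd f' g') := by
  rw [isStrict_iff] at hf ⊢
  intro p T y h₁ h₂
  obtain ⟨T₁, π₁, _, (x : T₁ ⟶ pullback f'.hom g'.hom), hx⟩ := exists_of_imageSubobject_factors h₁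
  change π₁ ≫ y = x ≫ pullback.snd f'.hom g'.hom at hx
  have hy : (imageSubobject f'.hom).Factors (π₁ ≫ y ≫ g'.hom) := by
    rw [← Category.assoc, hx, Category.assoc, ← pullback.condition, ← Category.assoc]
    exact imageSubobject_factors_comp_self _ _
  obtain ⟨T₂, π₂, _, l, hl, e⟩ := hf p _ _ hy
    (Subobject.factors_of_factors_right _ (factors_hom g' h₂))
  refine ⟨T₂, π₂ ≫ π₁, inferInstance,
    pullback.lift l (π₂ ≫ π₁ ≫ y) (by rw [← e, Category.assoc, Category.assoc]),
    (pullObj_factors f' g' _).mpr ⟨by rw [pullback.lift_fst]; exact hl, ?_⟩, ?_⟩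
  · rw [pullback.lift_snd]
    exact Subobject.factors_of_factors_right _ (Subobject.factors_of_factors_right _ h₂)
  · exact (Category.assoc _ _ _).trans (pullback.lift_snd _ _ _).symm

end Groth.Agent.SpFilLib
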