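import Groth.Agent.SpFilLib.Acyclic

/-! Weak Serre classes and the spectral sequence of a filtered complex with finite filtrations. -/

universe v u

open CategoryTheory CategoryTheory.Limits

noncomputable section

namespace Groth.Agent.SpFilLib

set_option linter.style.haveILetI false

variable {A : Type u} [Category.{v} A] [Abelian A]

/-! ### Weak Serre classes -/

/-- The hypotheses on a weak Serre class, in the five term form. -/
structure IsWeakSerre (P : ObjectProperty A) : Prop where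
  zero : ∃ Z : A, IsZero Z ∧ P Z
  five : ∀ S : ComposableArrows A 4, S.Exact → P (S.obj 0) → P (S.obj 1) → P (S.obj 3) →
    P (S.obj 4) → P (S.obj 2)

section Serre

variable {P : ObjectProperty A} [P.IsClosedUnderIsomorphisms] (hW : IsWeakSerre P)

theorem five_exact {X₀ X₁ X₂ X₃ X₄ : A} {f : X₀ ⟶ X₁} {g : X₁ ⟶ X₂} {h : X₂ ⟶ X₃} {k : X₃ ⟶ X₄}
    {w₁ : f ≫ g = 0} {w₂ : g ≫ h = 0} {w₃ : h ≫ k = 0} (e₁ : (ShortComplex.mk f g w₁).Exact)
    (e₂ : (ShortComplex.mk g h w₂).Exact) (e₃ : (ShortComplex.mk h k w₃).Exact) :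
    (ComposableArrows.mk₄ f g h k).Exact :=
  ComposableArrows.exact_of_δ₀ (ComposableArrows.exact₂_mk _ w₁ e₁)
    (ComposableArrows.exact_of_δ₀ (ComposableArrows.exact₂_mk _ w₂ e₂)
      (ComposableArrows.exact₂_mk _ w₃ e₃))

include hW in
theorem IsWeakSerre.of_isZero {X : A} (h : IsZero X) : P X := by
  obtain ⟨Z, hZ, hPZ⟩ := hW.zero
  exact P.prop_of_iso (hZ.iso h) hPZ

include hW in
theorem IsWeakSerre.kernel {K X Y : A} {i : K ⟶ X} {f : X ⟶ Y} [Mono i] {w : i ≫ f = 0}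
    (h : (ShortComplex.mk i f w).Exact) (hX : P X) (hY : P Y) : P K := by
  obtain ⟨Z, hZ, hPZ⟩ := hW.zero
  refine hW.five _ (five_exact (f := (0 : Z ⟶ Z)) (g := (0 : Z ⟶ K)) (w₁ := zero_comp)
    (w₂ := zero_comp) ?_ ?_ h) hPZ hPZ hX hY
  · exact ShortComplex.exact_of_isZero_X₂ _ hZ
  · exact (ShortComplex.exact_iff_mono _ rfl).mpr (inferInstanceAs (Mono i))

include hW in
theorem IsWeakSerre.cokernel {X Y Q : A} {f : X ⟶ Y} {p : Y ⟶ Q} [Epi p] {w : f ≫ p = 0}
    (h : (ShortComplex.mk f p w).Exact) (hX : P X) (hY : P Y) : P Q := by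
  obtain ⟨Z, hZ, hPZ⟩ := hW.zero
  refine hW.five _ (five_exact (h := (0 : Q ⟶ Z)) (k := (0 : Z ⟶ Z)) (w₂ := comp_zero)
    (w₃ := comp_zero) h ?_ ?_) hX hY hPZ hPZ
  · exact (ShortComplex.exact_iff_epi _ rfl).mpr (inferInstanceAs (Epi p))
  · exact ShortComplex.exact_of_isZero_X₂ _ hZ

include hW in
theorem IsWeakSerre.extension {X Y Q : A} {f : X ⟶ Y} {p : Y ⟶ Q} [Mono f] [Epi p] {w : f ≫ p = 0}
    (h : (ShortComplex.mk f p w).Exact) (hX : P X) (hQ : P Q) : P Y := by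
  obtain ⟨Z, hZ, hPZ⟩ := hW.zero
  refine hW.five _ (five_exact (f := (0 : Z ⟶ X)) (k := (0 : Q ⟶ Z)) (w₁ := zero_comp)
    (w₃ := comp_zero) ?_ h ?_) hPZ hX hQ hPZ
  · exact (ShortComplex.exact_iff_mono _ rfl).mpr (inferInstanceAs (Mono f))
  · exact (ShortComplex.exact_iff_epi _ rfl).mpr (inferInstanceAs (Epi p))

end Serre

/-! ### Subquotients -/

section Subquot

variable {X : A} {Z B Z' B' : Subobject X}

/-- The projection `Z → Z / B`. -/
def sqπ (h : B ≤ Z) : (Z : A) ⟶ SpSeq.subquot Z B h := cokernel.π (B.ofLE Z h)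

theorem ofLE_sqπ (h : B ≤ Z) : B.ofLE Z h ≫ sqπ h = 0 := cokernel.condition _

instance epi_sqπ (h : B ≤ Z) : Epi (sqπ h) := inferInstanceAs (Epi (cokernel.π (B.ofLE Z h)))

/-- Maps out of `Z / B`. -/
def sqDesc (h : B ≤ Z) {W : A} (g : (Z : A) ⟶ W) (w : B.ofLE Z h ≫ g = 0) :
    SpSeq.subquot Z B h ⟶ W := cokernel.desc _ g w

theorem sqπ_desc (h : B ≤ Z) {W : A} (g : (Z : A) ⟶ W) (w : B.ofLE Z h ≫ g = 0) :
    sqπ h ≫ sqDesc h g w = g := cokernel.π_desc _ _ _

theorem exists_lift_of_sqπ (h : B ≤ Z) {T : A} (z : T ⟶ (Z : A)) (w : z ≫ sqπ h = 0) :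
    ∃ b : T ⟶ (B : A), b ≫ B.ofLE Z h = z :=
  ⟨Abelian.monoLift (B.ofLE Z h) z w, Abelian.monoLift_comp _ _ _⟩

/-- The class of a generalized element of `Z` in `Z / B`. -/
def cls (h : B ≤ Z) {T : A} (x : T ⟶ X) (hx : Z.Factors x) : T ⟶ SpSeq.subquot Z B h :=
  Z.factorThru x hx ≫ sqπ h

theorem cls_comp (h : B ≤ Z) {T T' : A} (π : T' ⟶ T) (x : T ⟶ X) (hx : Z.Factors x) :
    π ≫ cls h x hx = cls h (π ≫ x) (Subobject.factors_of_factors_right π hx) := by
  unfold cls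
  rw [← Category.assoc]
  congr 1
  rw [← cancel_mono Z.arrow, Category.assoc, Subobject.factorThru_arrow,
    Subobject.factorThru_arrow]

theorem cls_congr (h : B ≤ Z) {T : A} {x y : T ⟶ X} (e : x = y) (hx : Z.Factors x) :
    cls h x hx = cls h y (e ▸ hx) := by
  subst e
  rfl

theorem cls_add (h : B ≤ Z) {T : A} (x y : T ⟶ X) (hx : Z.Factors x) (hy : Z.Factors y) :
    cls h (x + y) (Subobject.factors_add _ _ hx hy) = cls h x hx + cls h y hy := by
  unfold cls
  rw [← Preadditive.add_comp]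
  congr 1
  rw [← cancel_mono Z.arrow, Preadditive.add_comp, Subobject.factorThru_arrow,
    Subobject.factorThru_arrow, Subobject.factorThru_arrow]

theorem cls_eq_zero_iff (h : B ≤ Z) {T : A} (x : T ⟶ X) (hx : Z.Factors x) :
    cls h x hx = 0 ↔ B.Factors x := by
  constructor
  · intro h0
    obtain ⟨b, hb⟩ := exists_lift_of_sqπ h _ h0
    have := Subobject.factors_comp_arrow (P := B) b
    rwa [← Subobject.ofLE_arrow h, ← Category.assoc, hb, Subobject.factorThru_arrow] at this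
  · intro hB
    have : Z.factorThru x hx = B.factorThru x hB ≫ B.ofLE Z h := by
      rw [← cancel_mono Z.arrow, Category.assoc, Subobject.ofLE_arrow, Subobject.factorThru_arrow,
        Subobject.factorThru_arrow]
    rw [cls, this, Category.assoc, ofLE_sqπ, comp_zero]

theorem cls_add_right (h : B ≤ Z) {T : A} (x y : T ⟶ X) (hx : Z.Factors x) (hy : B.Factors y) :
    cls h (x + y) (Subobject.factors_add _ _ hx (Subobject.factors_of_le _ h hy)) = cls h x hx := by
  rw [cls_add h x y hx (Subobject.factors_of_le _ h hy), (cls_eq_zero_iff h y _).mpr hy, add_zero]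

theorem cls_surj (h : B ≤ Z) {T : A} (γ : T ⟶ SpSeq.subquot Z B h) :
    ∃ (T' : A) (π : T' ⟶ T) (_ : Epi π) (x : T' ⟶ X) (hx : Z.Factors x), π ≫ γ = cls h x hx := by
  obtain ⟨T', π, _, z, hz⟩ := surjective_up_to_refinements_of_epi (sqπ h) γ
  refine ⟨T', π, inferInstance, z ≫ Z.arrow, Subobject.factors_comp_arrow z, hz.trans ?_⟩
  unfold cls
  congr 1
  rw [← cancel_mono Z.arrow, Subobject.factorThru_arrow]

/-- The map of subquotients induced by inclusions. -/
def sqMap (h : B ≤ Z) (h' : B' ≤ Z') (hZ : Z ≤ Z') (hB : B ≤ B') :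
    SpSeq.subquot Z B h ⟶ SpSeq.subquot Z' B' h' :=
  sqDesc h (Z.ofLE Z' hZ ≫ sqπ h') (by
    rw [← Category.assoc, Subobject.ofLE_comp_ofLE, ← Subobject.ofLE_comp_ofLE B B' Z' hB h',
      Category.assoc, ofLE_sqπ, comp_zero])

theorem sqπ_sqMap (h : B ≤ Z) (h' : B' ≤ Z') (hZ : Z ≤ Z') (hB : B ≤ B') :
    sqπ h ≫ sqMap h h' hZ hB = Z.ofLE Z' hZ ≫ sqπ h' := sqπ_desc _ _ _

theorem cls_sqMap (h : B ≤ Z) (h' : B' ≤ Z') (hZ : Z ≤ Z') (hB : B ≤ B') {T : A} (x : T ⟶ X)
    (hx : Z.Factors x) :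
    cls h x hx ≫ sqMap h h' hZ hB = cls h' x (Subobject.factors_of_le _ hZ hx) := by
  unfold cls
  rw [Category.assoc, sqπ_sqMap, ← Category.assoc]
  congr 1
  rw [← cancel_mono Z'.arrow, Category.assoc, Subobject.ofLE_arrow, Subobject.factorThru_arrow,
    Subobject.factorThru_arrow]

theorem mono_sqMap (h : B ≤ Z) (h' : B ≤ Z') (hZ : Z ≤ Z') : Mono (sqMap h h' hZ le_rfl) := by
  refine Preadditive.mono_of_cancel_zero _ fun {T} γ hγ => ?_
  obtain ⟨T', π, _, x, hx, e⟩ := cls_surj h γ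
  have h0 := congrArg (π ≫ ·) hγ
  simp only [← Category.assoc, e, cls_sqMap, comp_zero] at h0
  rw [← cancel_epi π, comp_zero, e, cls_eq_zero_iff]
  exact (cls_eq_zero_iff _ _ _).mp h0

theorem epi_sqMap (h : B ≤ Z) (h' : B' ≤ Z) (hB : B ≤ B') : Epi (sqMap h h' le_rfl hB) := by
  haveI : Epi (Z.ofLE Z le_rfl ≫ sqπ h') := by
    rw [Subobject.ofLE_refl, Category.id_comp]; infer_instance
  exact epi_of_epi_fac (sqπ_sqMap h h' le_rfl hB)

theorem exact_sqMap {M : Subobject X} (h₁ : B ≤ M) (h₂ : M ≤ Z) :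
    ∃ w, (ShortComplex.mk (sqMap h₁ (h₁.trans h₂) h₂ le_rfl)
      (sqMap (h₁.trans h₂) h₂ le_rfl h₁) w).Exact := by
  have w : sqMap h₁ (h₁.trans h₂) h₂ le_rfl ≫ sqMap (h₁.trans h₂) h₂ le_rfl h₁ = 0 := by
    rw [← cancel_epi (sqπ h₁), ← Category.assoc, sqπ_sqMap, Category.assoc, sqπ_sqMap, comp_zero,
      ← Category.assoc, Subobject.ofLE_comp_ofLE, ofLE_sqπ]
  refine ⟨w, ?_⟩
  · rw [ShortComplex.exact_iff_exact_up_to_refinements]
    intro T γ hγ
    obtain ⟨T', π, _, x, hx, e⟩ := cls_surj (h₁.trans h₂) γ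
    have h0 := congrArg (π ≫ ·) hγ
    simp only [← Category.assoc, e, cls_sqMap, comp_zero] at h0
    rw [cls_eq_zero_iff] at h0
    exact ⟨T', π, inferInstance, cls h₁ x h0, e.trans (cls_sqMap h₁ _ h₂ le_rfl x h0).symm⟩

end Subquot

theorem factors_sup_iff {X : A} (S T : Subobject X) {W : A} (x : W ⟶ X) :
    (S ⊔ T).Factors x ↔ ∃ (W' : A) (π : W' ⟶ W) (_ : Epi π) (a b : W' ⟶ X),
      S.Factors a ∧ T.Factors b ∧ π ≫ x = a + b := by
  constructor
  · intro h
    have e : S ⊔ T ≤ imageSubobject (coprod.desc S.arrow T.arrow) :=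
      sup_le (Subobject.le_of_comm (coprod.inl ≫ factorThruImageSubobject _) (by simp [coprod.inl_desc]))
        (Subobject.le_of_comm (coprod.inr ≫ factorThruImageSubobject _) (by simp [coprod.inr_desc]))
    have h' := Subobject.factors_of_le _ e h
    obtain ⟨W', π, _, u, hu⟩ := surjective_up_to_refinements_of_epi
      (factorThruImageSubobject (coprod.desc S.arrow T.arrow)) (Subobject.factorThru _ x h')
    have hu' := congrArg (· ≫ (imageSubobject (coprod.desc S.arrow T.arrow)).arrow) hu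
    simp only [Category.assoc, Subobject.factorThru_arrow, imageSubobject_arrow_comp] at hu'
    refine ⟨W', π, inferInstance, (u ≫ coprod.desc (𝟙 _) 0) ≫ S.arrow,
      (u ≫ coprod.desc 0 (𝟙 _)) ≫ T.arrow, Subobject.factors_comp_arrow _,
      Subobject.factors_comp_arrow _, ?_⟩
    rw [hu']
    simp only [Category.assoc, ← Preadditive.comp_add]
    congr 1
    apply coprod.hom_ext
    · rw [Preadditive.comp_add, coprod.inl_desc, coprod.inl_desc_assoc, coprod.inl_desc_assoc]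
      simp
    · rw [Preadditive.comp_add, coprod.inr_desc, coprod.inr_desc_assoc, coprod.inr_desc_assoc]
      simp
  · rintro ⟨W', π, _, a, b, ha, hb, e⟩
    refine factors_of_epi _ π x ?_
    rw [e]
    exact Subobject.factors_add _ _ (Subobject.factors_of_le _ le_sup_left ha)
      (Subobject.factors_of_le _ le_sup_right hb)

theorem exists_of_imageSubobject_factors {X Y W : A} {f : X ⟶ Y} {x : W ⟶ Y}
    (h : (imageSubobject f).Factors x) :
    ∃ (W' : A) (π : W' ⟶ W) (_ : Epi π) (u : W' ⟶ X), π ≫ x = u ≫ f := by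
  obtain ⟨W', π, _, u, hu⟩ := surjective_up_to_refinements_of_epi
    (factorThruImageSubobject f) (Subobject.factorThru _ x h)
  have hu' := congrArg (· ≫ (imageSubobject f).arrow) hu
  simp only [Category.assoc, Subobject.factorThru_arrow, imageSubobject_arrow_comp] at hu'
  exact ⟨W', π, inferInstance, u, hu'⟩

theorem factors_sub {X W : A} {S : Subobject X} {a b : W ⟶ X} (ha : S.Factors a)
    (hb : S.Factors b) : S.Factors (a - b) := by
  have := Subobject.factors_comp_arrow (P := S) (S.factorThru a ha - S.factorThru b hb)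
  simpa using this

/-! ### The pages -/

variable (K : SpSeq.FilCx A)

/-- Membership of a generalized element in `F^p K^n`. -/
abbrev F (p n : ℤ) {T : A} (x : T ⟶ K.obj.X n) : Prop := (K.filX p n).Factors x

theorem F_mono {p q n : ℤ} (h : p ≤ q) {T : A} {x : T ⟶ K.obj.X n} (hx : F K q n x) : F K p n x :=
  Subobject.factors_of_le _ (K.filX_anti n h) hx

theorem F_d {p n m : ℤ} {T : A} {x : T ⟶ K.obj.X n} (hx : F K p n x) :
    F K p m (x ≫ K.obj.d n m) := by
  obtain ⟨a, rfl⟩ := exists_of_filX_factors K hx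
  rw [Category.assoc, HomologicalComplex.Hom.comm, ← Category.assoc]
  exact filX_factors K _

theorem ZSub_intro {r : ℕ} {p n q : ℤ} (hq : q ≤ p + r → q = p + r) (hq' : p + r ≤ q) {T : A}
    {a b : T ⟶ K.obj.X n} (ha : F K p n a) (hda : F K q (n + 1) (a ≫ K.obj.d n (n + 1)))
    (hb : F K (p + 1) n b) : (K.ZSub r p n).Factors (a + b) :=
  Subobject.factors_add _ _ (Subobject.factors_of_le _ le_sup_left ((Subobject.inf_factors _).mpr
    ⟨ha, (Limits.pullback_factors_iff _ _ _).mpr (F_mono K hq' hda)⟩))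
    (Subobject.factors_of_le _ le_sup_right hb)

theorem ZSub_elim {r : ℕ} {p n : ℤ} {T : A} {x : T ⟶ K.obj.X n} (h : (K.ZSub r p n).Factors x) :
    ∃ (T' : A) (π : T' ⟶ T) (_ : Epi π) (a b : T' ⟶ K.obj.X n), F K p n a ∧
      F K (p + r) (n + 1) (a ≫ K.obj.d n (n + 1)) ∧ F K (p + 1) n b ∧ π ≫ x = a + b := by
  obtain ⟨T', π, hπ, a, b, ha, hb, e⟩ := (factors_sup_iff _ _ _).mp h
  obtain ⟨ha₁, ha₂⟩ := (Subobject.inf_factors _).mp ha
  exact ⟨T', π, hπ, a, b, ha₁, (Limits.pullback_factors_iff _ _ _).mp ha₂, hb, e⟩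

theorem BSub_intro {r : ℕ} {p n q m : ℤ} (hm : m + 1 = n) (hq : p - r + 1 ≤ q) {T : A}
    {y : T ⟶ K.obj.X m} {b : T ⟶ K.obj.X n} (hy : F K q m y)
    (hdy : F K p n (y ≫ K.obj.d m n)) (hb : F K (p + 1) n b) :
    (K.BSub r p n).Factors (y ≫ K.obj.d m n + b) := by
  obtain rfl : m = n - 1 := by omega
  refine Subobject.factors_add _ _ (Subobject.factors_of_le _ le_sup_left
    ((Subobject.inf_factors _).mpr ⟨hdy, ?_⟩)) (Subobject.factors_of_le _ le_sup_right hb)
  obtain ⟨v, hv⟩ : ∃ v, v ≫ (K.filX (p - r + 1) (n - 1)).arrow = y :=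
    ⟨_, Subobject.factorThru_arrow _ _ (F_mono K hq hy)⟩
  rw [← hv, Category.assoc]
  exact imageSubobject_factors_comp_self _ _

theorem BSub_elim {r : ℕ} {p n m : ℤ} (hm : m + 1 = n) {T : A} {x : T ⟶ K.obj.X n}
    (h : (K.BSub r p n).Factors x) :
    ∃ (T' : A) (π : T' ⟶ T) (_ : Epi π) (y : T' ⟶ K.obj.X m) (b : T' ⟶ K.obj.X n),
      F K (p - r + 1) m y ∧ F K p n (y ≫ K.obj.d m n) ∧ F K (p + 1) n b ∧
        π ≫ x = y ≫ K.obj.d m n + b := by
  obtain rfl : m = n - 1 := by omega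
  obtain ⟨T₁, π₁, _, a, b, ha, hb, e⟩ := (factors_sup_iff _ _ _).mp h
  obtain ⟨ha₁, ha₂⟩ := (Subobject.inf_factors _).mp ha
  obtain ⟨T₂, π₂, _, u, hu⟩ := exists_of_imageSubobject_factors ha₂
  rw [← Category.assoc] at hu
  refine ⟨T₂, π₂ ≫ π₁, epi_comp _ _, u ≫ (K.filX (p - r + 1) (n - 1)).arrow, π₂ ≫ b,
    Subobject.factors_comp_arrow _, ?_, Subobject.factors_of_factors_right _ hb, ?_⟩
  · rw [← hu]
    exact Subobject.factors_of_factors_right _ ha₁
  · rw [Category.assoc, e, Preadditive.comp_add, hu]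

theorem ZSub_succ_le (r : ℕ) (p n : ℤ) : K.ZSub (r + 1) p n ≤ K.ZSub r p n :=
  sup_le_sup_right (inf_le_inf_left _ (leOfHom ((Subobject.pullback _).map
    (homOfLE (K.filX_anti (n + 1) (by omega : p + (r : ℤ) ≤ p + ((r + 1 : ℕ) : ℤ))))))) _

theorem BSub_le_succ (r : ℕ) (p n : ℤ) : K.BSub r p n ≤ K.BSub (r + 1) p n := by
  refine sup_le_sup_right (inf_le_inf_left _ ?_) _
  have h : K.filX (p - (r : ℤ) + 1) (n - 1) ≤ K.filX (p - ((r + 1 : ℕ) : ℤ) + 1) (n - 1) :=
    K.filX_anti _ (by omega)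
  exact SpSeq.FilCx.imageSubobject_le_of_fac (Subobject.ofLE _ _ h)
    (by rw [← Category.assoc, Subobject.ofLE_arrow])

/-- The subobject `F^p K^n ⊓ d⁻¹(F^{p+r})`. -/
abbrev S (r : ℕ) (p n : ℤ) : Subobject (K.obj.X n) :=
  K.filX p n ⊓ (Subobject.pullback (K.obj.d n (n + 1))).obj (K.filX (p + r) (n + 1))

theorem S_arrow (r : ℕ) (p n : ℤ) : F K p n (S K r p n).arrow ∧
    F K (p + r) (n + 1) ((S K r p n).arrow ≫ K.obj.d n (n + 1)) :=
  ⟨((Subobject.inf_factors _).mp (Subobject.factors_self _)).1,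
    (Limits.pullback_factors_iff _ _ _).mp
      ((Subobject.inf_factors _).mp (Subobject.factors_self _)).2⟩

theorem S_factors_ZSub {r : ℕ} {p n : ℤ} {T : A} {x : T ⟶ K.obj.X n}
    (h : (S K r p n).Factors x) : (K.ZSub r p n).Factors x :=
  Subobject.factors_of_le _ le_sup_left h

theorem d_factors_ZSub {r : ℕ} {p n : ℤ} {T : A} {x : T ⟶ K.obj.X n}
    (h : F K (p + r) (n + 1) (x ≫ K.obj.d n (n + 1))) :
    (K.ZSub r (p + r) (n + 1)).Factors (x ≫ K.obj.d n (n + 1)) := by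
  refine S_factors_ZSub K ((Subobject.inf_factors _).mpr
    ⟨h, (Limits.pullback_factors_iff _ _ _).mpr ?_⟩)
  rw [Category.assoc, K.obj.d_comp_d, comp_zero]
  exact Subobject.factors_zero

/-- The term of the page, as a subquotient. -/
abbrev EE (r : ℕ) (p n : ℤ) : A := SpSeq.subquot (K.ZSub r p n) (K.BSub r p n) (K.BSub_le_ZSub r p n)

/-- The projection `S → E_r`. -/
def toE (r : ℕ) (p n : ℤ) : (S K r p n : A) ⟶ EE K r p n :=
  cls (K.BSub_le_ZSub r p n) (S K r p n).arrow (S_factors_ZSub K (Subobject.factors_self _))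

theorem toE_apply (r : ℕ) (p n : ℤ) {T : A} (x : T ⟶ (S K r p n : A)) :
    x ≫ toE K r p n = cls (K.BSub_le_ZSub r p n) (x ≫ (S K r p n).arrow)
      (S_factors_ZSub K (Subobject.factors_comp_arrow x)) :=
  cls_comp _ _ _ _

instance epi_toE (r : ℕ) (p n : ℤ) : Epi (toE K r p n) := by
  rw [epi_iff_surjective_up_to_refinements]
  intro T γ
  obtain ⟨T₁, π₁, _, x, hx, e⟩ := cls_surj (K.BSub_le_ZSub r p n) γ
  obtain ⟨T₂, π₂, _, a, b, ha, hda, hb, e'⟩ := ZSub_elim K hx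
  have haS : (S K r p n).Factors a :=
    (Subobject.inf_factors _).mpr ⟨ha, (Limits.pullback_factors_iff _ _ _).mpr hda⟩
  refine ⟨T₂, π₂ ≫ π₁, epi_comp _ _, (S K r p n).factorThru a haS, ?_⟩
  have hbB : (K.BSub r p n).Factors b := Subobject.factors_of_le _ le_sup_right hb
  rw [toE_apply, Category.assoc, e, cls_comp, cls_congr _ e', cls_add_right _ _ _ (S_factors_ZSub K haS) hbB]
  exact (cls_congr _ (Subobject.factorThru_arrow _ _ _) _).symm

/-- The map `S → E_r` at the target of the differential. -/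
def toTarget (r : ℕ) (p n : ℤ) : (S K r p n : A) ⟶ EE K r (p + r) (n + 1) :=
  cls (K.BSub_le_ZSub r (p + r) (n + 1)) ((S K r p n).arrow ≫ K.obj.d n (n + 1))
    (d_factors_ZSub K (S_arrow K r p n).2)

/-- The differential of the page `r`. -/
def δ (r : ℕ) (p n : ℤ) : EE K r p n ⟶ EE K r (p + r) (n + 1) :=
  Abelian.epiDesc (toE K r p n) (toTarget K r p n) (by
    set t := kernel.ι (toE K r p n)
    have h : t ≫ toE K r p n = 0 := kernel.condition _
    rw [toE_apply, cls_eq_zero_iff] at h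
    obtain ⟨T, π, _, y, b, hy, hdy, hb, e⟩ := BSub_elim K (m := n - 1) (by omega) h
    rw [← cancel_epi π, comp_zero, ← Category.assoc]
    show _ ≫ cls _ _ _ = 0
    rw [cls_comp, cls_eq_zero_iff, ← Category.assoc, Category.assoc π, e, Preadditive.add_comp,
      Category.assoc, K.obj.d_comp_d, comp_zero, zero_add,
      ← add_zero (b ≫ K.obj.d n (n + 1))]
    have hdb : F K (p + r) (n + 1) (b ≫ K.obj.d n (n + 1)) := by
      have := Subobject.factors_of_factors_right (π ≫ t) (S_arrow K r p n).2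
      rwa [← Category.assoc, Category.assoc π, e, Preadditive.add_comp, Category.assoc,
        K.obj.d_comp_d, comp_zero, zero_add] at this
    exact BSub_intro K rfl (by omega) hb hdb Subobject.factors_zero)

theorem cls_δ {r : ℕ} {p n : ℤ} {T : A} (a : T ⟶ K.obj.X n) (ha : F K p n a)
    (hda : F K (p + r) (n + 1) (a ≫ K.obj.d n (n + 1))) (hz : (K.ZSub r p n).Factors a) :
    cls (K.BSub_le_ZSub r p n) a hz ≫ δ K r p n =
      cls (K.BSub_le_ZSub r (p + r) (n + 1)) (a ≫ K.obj.d n (n + 1)) (d_factors_ZSub K hda) := by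
  have haS : (S K r p n).Factors a :=
    (Subobject.inf_factors _).mpr ⟨ha, (Limits.pullback_factors_iff _ _ _).mpr hda⟩
  have e := toE_apply K r p n ((S K r p n).factorThru a haS)
  rw [cls_congr _ (Subobject.factorThru_arrow _ _ _)] at e
  rw [← e, Category.assoc, δ, Abelian.comp_epiDesc, toTarget, cls_comp,
    cls_congr _ (show _ = a ≫ K.obj.d n (n + 1) by rw [← Category.assoc, Subobject.factorThru_arrow])]

theorem exact_kernel_δ (r : ℕ) (p n : ℤ)
    (h : K.BSub r p n ≤ K.ZSub (r + 1) p n) :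
    ∃ w, (ShortComplex.mk (sqMap h (K.BSub_le_ZSub r p n) (ZSub_succ_le K r p n) le_rfl)
      (δ K r p n) w).Exact := by
  have w : sqMap h (K.BSub_le_ZSub r p n) (ZSub_succ_le K r p n) le_rfl ≫ δ K r p n = 0 := by
    refine (cancel_epi (sqπ h)).mp ?_
    have hid : sqπ h =
        cls h (K.ZSub (r + 1) p n).arrow (Subobject.factors_self _) := by
      unfold cls
      rw [Subobject.factorThru_self, Category.id_comp]
    rw [hid, comp_zero, ← Category.assoc, cls_sqMap]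
    obtain ⟨T, π, _, a, b, ha, hda, hb, e⟩ :=
      ZSub_elim K (Subobject.factors_self (K.ZSub (r + 1) p n))
    have hda' : F K (p + r) (n + 1) (a ≫ K.obj.d n (n + 1)) := F_mono K (by omega) hda
    have haZ : (K.ZSub r p n).Factors a := S_factors_ZSub K
      ((Subobject.inf_factors _).mpr ⟨ha, (Limits.pullback_factors_iff _ _ _).mpr hda'⟩)
    rw [← cancel_epi π, comp_zero, ← Category.assoc, cls_comp, cls_congr _ e,
      cls_add_right (K.BSub_le_ZSub r p n) a b haZ (Subobject.factors_of_le _ le_sup_right hb),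
      cls_δ K a ha hda',
      cls_eq_zero_iff]
    exact Subobject.factors_of_le _ le_sup_right (F_mono K (by omega) hda)
  refine ⟨w, ?_⟩
  · rw [ShortComplex.exact_iff_exact_up_to_refinements]
    intro T γ hγ
    obtain ⟨T₁, π₁, _, x, hx, e⟩ := cls_surj (K.BSub_le_ZSub r p n) γ
    obtain ⟨T₂, π₂, _, a, b, ha, hda, hb, e'⟩ := ZSub_elim K hx
    have haZ : (K.ZSub r p n).Factors a := S_factors_ZSub K
      ((Subobject.inf_factors _).mpr ⟨ha, (Limits.pullback_factors_iff _ _ _).mpr hda⟩)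
    have e₂ : (π₂ ≫ π₁) ≫ γ = cls (K.BSub_le_ZSub r p n) a haZ := by
      rw [Category.assoc, e, cls_comp, cls_congr _ e',
        cls_add_right (K.BSub_le_ZSub r p n) a b haZ (Subobject.factors_of_le _ le_sup_right hb)]
    have h0 := congrArg ((π₂ ≫ π₁) ≫ ·) hγ
    simp only [← Category.assoc, e₂, cls_δ K a ha hda, comp_zero] at h0
    rw [cls_eq_zero_iff] at h0
    obtain ⟨T₃, π₃, _, y, f, hy, hdy, hf, e''⟩ := BSub_elim K (m := n) rfl h0
    have hmem : (K.ZSub (r + 1) p n).Factors (π₃ ≫ a) := by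
      rw [← sub_add_cancel (π₃ ≫ a) y]
      refine ZSub_intro K (q := p + r + 1) (fun _ => by omega) (by omega)
        (factors_sub (Subobject.factors_of_factors_right _ ha) (F_mono K (by omega) hy)) ?_
        (F_mono K (by omega) hy)
      rw [Preadditive.sub_comp, Category.assoc, e'', add_sub_cancel_left]
      exact hf
    refine ⟨T₃, π₃ ≫ π₂ ≫ π₁, inferInstance, cls h _ hmem, ?_⟩
    rw [cls_sqMap, Category.assoc, e₂, cls_comp]

theorem exact_δ_cokernel (r : ℕ) (p n : ℤ)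
    (h : K.BSub (r + 1) (p + r) (n + 1) ≤ K.ZSub r (p + r) (n + 1)) :
    ∃ w, (ShortComplex.mk (δ K r p n)
      (sqMap (K.BSub_le_ZSub r (p + r) (n + 1)) h le_rfl (BSub_le_succ K r _ _)) w).Exact := by
  have w : δ K r p n ≫ sqMap (K.BSub_le_ZSub r (p + r) (n + 1)) h le_rfl (BSub_le_succ K r _ _) = 0 := by
    rw [← cancel_epi (toE K r p n), comp_zero, δ, Abelian.comp_epiDesc_assoc, toTarget, cls_sqMap,
      cls_eq_zero_iff, ← add_zero ((S K r p n).arrow ≫ K.obj.d n (n + 1))]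
    exact BSub_intro K rfl (by omega) (S_arrow K r p n).1 (S_arrow K r p n).2
      Subobject.factors_zero
  refine ⟨w, ?_⟩
  · rw [ShortComplex.exact_iff_exact_up_to_refinements]
    intro T γ hγ
    obtain ⟨T₁, π₁, _, z, hz, e⟩ := cls_surj (K.BSub_le_ZSub r (p + r) (n + 1)) γ
    have h0 := congrArg (π₁ ≫ ·) hγ
    simp only [← Category.assoc, e, cls_sqMap, comp_zero] at h0
    rw [cls_eq_zero_iff] at h0
    obtain ⟨T₂, π₂, _, y, f, hy, hdy, hf, e'⟩ := BSub_elim K (m := n) rfl h0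
    have hy' : F K p n y := F_mono K (by omega) hy
    have hyZ : (K.ZSub r p n).Factors y := S_factors_ZSub K
      ((Subobject.inf_factors _).mpr ⟨hy', (Limits.pullback_factors_iff _ _ _).mpr hdy⟩)
    refine ⟨T₂, π₂ ≫ π₁, inferInstance, cls (K.BSub_le_ZSub r p n) y hyZ, ?_⟩
    rw [cls_δ K y hy' hdy, Category.assoc, e, cls_comp, cls_congr _ e',
      cls_add_right (K.BSub_le_ZSub r (p + r) (n + 1)) (y ≫ K.obj.d n (n + 1)) f (d_factors_ZSub K hdy)
        (Subobject.factors_of_le _ le_sup_right hf)]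

section

variable {P : ObjectProperty A} [P.IsClosedUnderIsomorphisms] (hW : IsWeakSerre P)

include hW in
theorem prop_E_succ (r : ℕ) (hr : ∀ p n, P (K.E r p n)) (p n : ℤ) : P (K.E (r + 1) p n) := by
  have hBZ' : K.BSub r p n ≤ K.ZSub (r + 1) p n :=
    (BSub_le_succ K r p n).trans (K.BSub_le_ZSub (r + 1) p n)
  obtain ⟨w₁, e₁⟩ := exact_kernel_δ K r p n hBZ'
  haveI := mono_sqMap hBZ' (K.BSub_le_ZSub r p n) (ZSub_succ_le K r p n)
  have hker := hW.kernel e₁ (hr p n) (hr _ _)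
  obtain ⟨w₂, e₂⟩ := exact_sqMap hBZ' (ZSub_succ_le K r p n)
  haveI := epi_sqMap (hBZ'.trans (ZSub_succ_le K r p n)) (ZSub_succ_le K r p n) hBZ'
  have hQ : P (SpSeq.subquot (K.ZSub r p n) (K.ZSub (r + 1) p n) (ZSub_succ_le K r p n)) :=
    hW.cokernel e₂ hker (hr p n)
  have hB'Z : K.BSub (r + 1) p n ≤ K.ZSub r p n :=
    (K.BSub_le_ZSub (r + 1) p n).trans (ZSub_succ_le K r p n)
  have hcok : P (SpSeq.subquot (K.ZSub r p n) (K.BSub (r + 1) p n) hB'Z) := by
    obtain ⟨p', rfl⟩ : ∃ p', p = p' + r := ⟨p - r, by omega⟩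
    obtain ⟨n', rfl⟩ : ∃ n', n = n' + 1 := ⟨n - 1, by omega⟩
    obtain ⟨w₃, e₃⟩ := exact_δ_cokernel K r p' n' hB'Z
    haveI := epi_sqMap (K.BSub_le_ZSub r (p' + r) (n' + 1)) hB'Z (BSub_le_succ K r _ _)
    exact hW.cokernel e₃ (hr _ _) (hr _ _)
  obtain ⟨w₄, e₄⟩ := exact_sqMap (K.BSub_le_ZSub (r + 1) p n) (ZSub_succ_le K r p n)
  haveI := mono_sqMap (K.BSub_le_ZSub (r + 1) p n) hB'Z (ZSub_succ_le K r p n)
  exact @IsWeakSerre.kernel _ _ _ P _ hW _ _ _ _ _ this w₄ e₄ hcok hQ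

end

end Groth.Agent.SpFilLib
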